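import Cfsg.Agent.Fus.Ctl2
import Cfsg.Agent.BG.S1c
import Cfsg.Agent.S0121

/-! Subgroups of small exponent (`sq p = p`, or `4` for `p = 2`) detect `p'`-automorphisms (`exists_smD`); small
exponent abelian subgroups of the hyperfocal subgroup control fusion (`ctl_small`); criteria for `S ⊴ F`. -/

set_option autoImplicit false

namespace Cfsg.Agent.PLocal

open Subgroup Cfsg Cfsg.Agent.Loc Cfsg.Agent.Fus Equiv
open Cfsg.FusionSystem (normalizerIn centralizerIn)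
open scoped commutatorElement

/-- `p` for odd `p` and `4` for `p = 2`. -/
def sq (p : ℕ) : ℕ := if p = 2 then 4 else p

variable {p : ℕ} [hp : Fact p.Prime]

theorem dvd_choose_sq : p ∣ (sq p).choose 2 := by
  unfold sq; split_ifs with h
  · subst h; decide
  · exact PGrp.dvd_choose_two hp.out h

omit hp in
theorem sq_eq : ∃ e, sq p = p ^ (e + 1) ∧ e ≤ 1 := by
  unfold sq; split_ifs with h
  · exact ⟨1, by subst h; rfl, le_rfl⟩
  · exact ⟨0, by simp, zero_le_one⟩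

theorem exists_smD_top {G : Type*} [Group G] [Finite G] (hG : IsPGroup p G) : ∃ D : Subgroup G, D.Characteristic ∧
    (∀ x ∈ D, x ^ sq p = 1) ∧ ∀ a : MulAut G, (orderOf a).Coprime p → (∀ x ∈ D, a x = x) → a = 1 := by
  obtain ⟨H, hH, h1, h2⟩ := BG.exists_critical hG
  have h4 : ∀ x ∈ H, ∀ y ∈ H, (x * y) ^ sq p = x ^ sq p * y ^ sq p := fun x hx y hy => by
    have c := ((h1 y hy).2 x).2
    have cx : Commute ⁅y, x⁆ x := (c x hx).symm
    have cy : Commute ⁅y, x⁆ y := (c y hy).symm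
    obtain ⟨k, hk⟩ := dvd_choose_sq (p := p)
    rw [PGrp.mul_pow_of_commute_commutator cx cy, hk, pow_mul, ← PGrp.commutator_pow_left cy,
      commutatorElement_eq_one_iff_mul_comm.2 ((h1 y hy).1.2 x hx).symm, one_pow, one_mul]
  let D : Subgroup G :=
    { carrier := {x | x ∈ H ∧ x ^ sq p = 1}
      one_mem' := ⟨one_mem _, one_pow _⟩
      mul_mem' := fun {x y} hx hy => ⟨mul_mem hx.1 hy.1, by rw [h4 x hx.1 y hy.1, hx.2, hy.2, one_mul]⟩
      inv_mem' := fun {x} hx => ⟨inv_mem hx.1, by rw [inv_pow, hx.2, inv_one]⟩ }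
  have hm : ∀ φ : MulAut G, ∀ x ∈ H, φ x ∈ H := fun φ x hx => characteristic_iff_le_comap.1 hH φ hx
  refine ⟨D, characteristic_iff_le_comap.2 fun φ x hx => ⟨hm φ x hx.1, by
    show φ x ^ _ = 1
    rw [← map_pow, hx.2, map_one]⟩, fun x hx => hx.2, fun φ hc hφ => ?_⟩
  have key : ∀ j : ℕ, ∀ x ∈ H, x ^ sq p ^ (j + 1) = 1 → (φ ^ sq p ^ j) x = x := by
    intro j
    induction j with
    | zero => intro x hx e; exact hφ x ⟨hx, by simpa using e⟩
    | succ j ih =>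
      intro x hx e
      set ψ := φ ^ sq p ^ j with hψ
      have hu := mul_mem (inv_mem hx) (hm ψ x hx)
      have h1 : ψ (x ^ sq p) = x ^ sq p := ih _ (pow_mem hx _) (by rw [← pow_mul, ← pow_succ']; exact e)
      have h2 : (x⁻¹ * ψ x) ^ sq p = 1 := by
        rw [h4 _ (inv_mem hx) _ (hm ψ x hx), ← map_pow, h1, inv_pow, inv_mul_cancel]
      have h3 : ψ (x⁻¹ * ψ x) = x⁻¹ * ψ x := ih _ hu (by rw [pow_succ', pow_mul, h2, one_pow])
      have h5 : ∀ n : ℕ, (ψ ^ n) x = x * (x⁻¹ * ψ x) ^ n := by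
        intro n
        induction n with
        | zero => simp
        | succ n ih2 => rw [pow_succ', MulAut.mul_apply, ih2, map_mul, map_pow, h3, pow_succ', ← mul_assoc,
            mul_inv_cancel_left]
      rw [pow_succ, pow_mul, h5, h2, mul_one]
  obtain ⟨n, hn⟩ := IsPGroup.iff_card.1 hG
  obtain ⟨e, he, -⟩ := sq_eq (p := p)
  have hP : Phi H ≤ centralizer (H : Set G) := ((BG.Phi_min (hG.to_subgroup H)).2
    ⟨commutator_le.2 fun x hx y _ => (h1 x hx).2 y, fun x hx => (h1 x hx).1⟩).trans inf_le_right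
  have := S0121.result hG H hH hP (commutator_le.2 fun x hx y _ => (h1 x hx).2 y) h2 (φ ^ sq p ^ n)
    (hc.coprime_dvd_left (orderOf_pow_dvd _)) fun x hx => key n x hx (by
      obtain ⟨k, hk⟩ : p ^ n ∣ sq p ^ (n + 1) := by rw [he, ← pow_mul]; exact pow_dvd_pow _ (by nlinarith)
      rw [hk, pow_mul, ← hn, pow_card_eq_one', one_pow])
  refine orderOf_eq_one_iff.1 (Nat.eq_one_of_dvd_coprimes ?_ dvd_rfl (orderOf_dvd_of_pow_eq_one this))
  rw [he, ← pow_mul]; exact hc.pow_right _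

variable {Ω : Type*} [Group Ω]

theorem exists_smD {B : Subgroup Ω} [Finite B] (hB : IsPGroup p B) : ∃ D, Chr B D ∧ (∀ x ∈ D, x ^ sq p = 1) ∧
    ∀ a : Perm Ω, HomOn a B → Maps a B B → (orderOf a).Coprime p → (∀ x ∈ D, a x = x) → ∀ x ∈ B, a x = x := by
  obtain ⟨D, h1, h2, h3⟩ := exists_smD_top hB
  refine ⟨D.map B.subtype, ⟨map_subtype_le _, fun f h hm => h.maps_char hm D⟩, ?_, fun a h hm hc e x hx => ?_⟩
  · rintro _ ⟨x, hx, rfl⟩
    exact congrArg Subtype.val (h2 x hx)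
  · have := h3 (h.equiv hm) (hc.coprime_dvd_left (by
      rw [← orderOf_toPerm, h.toPerm_equiv]; exact (homOn_res B).orderOf_dvd hm))
      fun y hy => Subtype.ext (e _ (mem_map_of_mem _ hy))
    exact congrArg Subtype.val (DFunLike.congr_fun this ⟨x, hx⟩)

theorem fix_of_selfcent {a : Perm Ω} {A D : Subgroup Ω} (ha : (orderOf a).Coprime p) (hD : IsPGroup p D)
    (h : HomOn a D) (hm : Maps a D D) (hAD : A ≤ D) (hn : D ≤ normalizer (A : Set Ω))
    (hc : D ⊓ centralizer (A : Set Ω) ≤ A) (h1 : ∀ x ∈ A, a x = x) : ∀ c ∈ D, a c = c :=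
  fix_of_coprime_of_stab ha (hD.to_le hAD) h hm hAD h1 fun c hc' => hc ⟨D.mul_mem (D.inv_mem hc') (hm.mem hc'),
    inv_mul_mem_centralizer fun x hx => by
      rw [← h1 _ ((mem_normalizer_iff.1 (hn hc') x).1 hx), h.map_conj hc' (hAD hx), h1 x hx]⟩

theorem exists_selfcent {P D : Subgroup Ω} [Finite P] (hP : IsPGroup p P) (hD : D ≤ P)
    (hn : P ≤ normalizer (D : Set Ω)) : ∃ A ≤ D, P ≤ normalizer (A : Set Ω) ∧ A ≤ centralizer (A : Set Ω) ∧
      D ⊓ centralizer (A : Set Ω) ≤ A := by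
  haveI := hP.isNilpotent
  haveI : (D.subgroupOf P).Normal := (normal_subgroupOf_iff_le_normalizer hD).2 hn
  obtain ⟨A, -, ⟨h1, h2, h3⟩, hmax⟩ := BG.maxgroup_exists (A := (⊥ : Subgroup P))
    (P := fun A => A.Normal ∧ IsMulCommutative A ∧ A ≤ D.subgroupOf P) ⟨inferInstance, inferInstance, bot_le⟩
  have h4 : D.subgroupOf P ⊓ centralizer (A : Set P) ≤ A := by
    by_contra h
    obtain ⟨x, hx, hxA, hc⟩ := PGrp.exists_central_mod h
    exact hxA ((hmax _ ⟨PGrp.normal_sup_zpowers hc, PGrp.isMulCommutative_sup_zpowers hx.2,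
      sup_le h3 (zpowers_le.2 hx.1)⟩ le_sup_left).le (mem_sup_right (mem_zpowers x)))
  refine ⟨A.map P.subtype, map_le_iff_le_comap.2 h3, fun g hg => ?_, ?_, fun x hx => ?_⟩
  · exact le_normalizer_map _ (mem_map_of_mem _ (le_normalizer_of_normal (mem_top (⟨g, hg⟩ : P))))
  · exact le_centralizer _
  · exact ⟨⟨x, hD hx.1⟩, h4 ⟨hx.1, fun y hy => Subtype.ext (hx.2 _ (mem_map_of_mem _ hy))⟩, rfl⟩

variable {S P Q A : Subgroup Ω} [Finite S] {F E : FusionSystem S}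

/-- The small subgroup of `P ∩ hyp(F)` detecting `p'`-automorphisms. -/
theorem exists_smD_hyp (hF : Sat F p) (hP : P ≤ S) : ∃ D ≤ P ⊓ F.hyperfocalSubgroup p, AutF F P ≤ Stab D ∧
    (∀ x ∈ D, x ^ sq p = 1) ∧
      ∀ a ∈ AutF F P, (orderOf a).Coprime p → (∀ x ∈ D, a x = x) → ∀ x ∈ P, a x = x := by
  haveI := finite_of_le (inf_le_left.trans hP : P ⊓ F.hyperfocalSubgroup p ≤ S)
  have pB := hF.pg.to_le (inf_le_left.trans hP : P ⊓ F.hyperfocalSubgroup p ≤ S)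
  obtain ⟨D, h1, h2, h3⟩ := exists_smD pB
  have st := AutF_le_Stab_inf hP hF.sc_hyp
  refine ⟨D, h1.1, fun a ha => h1.2 a ((homOn_of_AutF ha).mono inf_le_left) (st ha), h2, fun a ha hc e => ?_⟩
  exact fix_of_coprime_of_stab hc pB (homOn_of_AutF ha) (maps_of_AutF ha) inf_le_left
    (h3 a ((homOn_of_AutF ha).mono inf_le_left) (st ha) hc e) fun c hc' =>
      ⟨P.mul_mem (P.inv_mem hc') ((maps_of_AutF ha).mem hc'), mem_hyp hP ha hc hc'⟩

/-- `A ≤ P` detects the `p'`-elements of `Aut_F(P)`. -/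
def Det (F : FusionSystem S) (p : ℕ) (A P : Subgroup Ω) : Prop :=
  A ≤ P ∧ ∀ a ∈ AutF F P, (orderOf a).Coprime p → (∀ x ∈ A, a x = x) → ∀ x ∈ P, a x = x

omit hp [Finite S] in
theorem Det.iso {P' A' : Subgroup Ω} {k : Perm Ω} (h : Det F p A P) (hk : Iso F k P P') (hm : Maps k A A') :
    Det F p A' P' := by
  refine ⟨(hm.le_iff hk.maps).2 h.1, fun a ha hc e y hy => ?_⟩
  obtain ⟨x, hx, rfl⟩ := hk.maps.exists_eq hy
  have := h.2 _ (hk.symm.conj_mem ha) (by rwa [Fus.orderOf_conj']) (fun x hx => by simp [e _ (hm.mem hx)]) x hx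
  simpa [Equiv.symm_apply_eq] using this

/-- Abelian subgroups of small exponent in the hyperfocal subgroup. -/
def Sml (F : FusionSystem S) (p : ℕ) (A : Subgroup Ω) : Prop :=
  A ≤ F.hyperfocalSubgroup p ∧ A ≤ centralizer (A : Set Ω) ∧ ∀ x ∈ A, x ^ sq p = 1

theorem Sml.iso {A' : Subgroup Ω} {k : Perm Ω} (hF : Sat F p) (h : Sml F p A) (hk : Iso F k A A') : Sml F p A' := by
  refine ⟨fun y hy => ?_, fun y hy => ?_, fun y hy => ?_⟩ <;> obtain ⟨x, hx, rfl⟩ := hk.maps.exists_eq hy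
  · exact sc_mem hF.sc_hyp hk.mor hx (h.1 hx)
  · exact hk.homOn.mem_centralizer le_rfl hk.maps hx (h.2.1 hx)
  · rw [← hk.homOn.map_pow hx, h.2.2 x hx, hk.homOn.map_one]

theorem exists_sml (hF : Sat F p) (hP : P ≤ S) : ∃ A, Sml F p A ∧ Det F p A P ∧ P ≤ normalizer (A : Set Ω) := by
  obtain ⟨D, h1, h2, h3, h4⟩ := exists_smD_hyp hF hP
  haveI := finite_of_le hP
  have hDP := h1.trans inf_le_left
  obtain ⟨A, k1, k2, k3, k4⟩ := exists_selfcent (hF.pg.to_le hP) hDP fun g hg => maps_cp_iff.1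
    (Maps.congr (h2 (cr_mem_AutF F hP (le_NS hP hg))) fun x hx => (cr_apply (le_normalizer hg) (hDP hx)).symm)
  exact ⟨A, ⟨k1.trans (h1.trans inf_le_right), k3, fun x hx => h3 x (k1 hx)⟩, ⟨k1.trans hDP, fun a ha hc e =>
    h4 a ha hc (fix_of_selfcent hc (hF.pg.to_le (hDP.trans hP)) ((homOn_of_AutF ha).mono hDP) (h2 ha) k1
      (hDP.trans k2) k4 e)⟩, k2⟩

theorem ctl_small (hF : Sat F p) (hE : Sat E p) (hEF : E.IsSubsystemOf F)
    (h : ∀ A (f : Perm Ω), Sml F p A → Mor F A f → Mor E A f) : F.IsSubsystemOf E := by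
  refine sub_iff_perm.2 (hF.ind_fn (closed_mor E) fun P hP ih a ha => ?_)
  have hPS := hP.1
  have ia := iso_of_AutF hPS ha
  obtain ⟨A, sA, dA, nA⟩ := exists_sml hF hPS
  have hAS := dA.1.trans hPS
  obtain ⟨g₁, A', i₁, fn⟩ := exists_fn E hAS
  have sA' := sA.iso hF (i₁.sub hEF)
  have fn' : F.IsFullyNormalized A' := fn_iff.2 ⟨fn.1, fun f Q hf => (fn_iff.1 fn).2 f Q ⟨h _ f sA' hf.mor, hf.maps⟩⟩
  have i₂ := ia.restrict dA.1
  have n₂ : P ≤ normalizerIn S (img a A) := le_inf hPS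
    (ia.maps.img_eq.ge.trans (ia.homOn.le_normalizer_img le_rfl dA.1 nA))
  obtain ⟨g₂, m₂, k₂⟩ := hE.NS_mor fn ((⟨h _ a sA i₂.mor, i₂.maps⟩ : Iso E a A _).symm.trans i₁)
  have mφ : Mor F P (⇑(g₂ * a)) := (m₂.sub hEF).mul ia.mor fun x hx => n₂ (ia.mem hx)
  have kφ : Maps (g₂ * a) A A' := i₂.maps.trans k₂
  obtain ⟨χ, mχ, eχ⟩ := rec_ext (hE.rec_of_fn fn) ⟨h _ _ sA (mφ.mono dA.1), kφ⟩ (R := P)
    fun g hg => mφ.mem_Ext dA.1 hg (nA hg)
  have iχ := (mχ.mono le_sup_left).iso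
  have kχ : Maps χ A A' := kφ.congr eχ
  have dA' := dA.iso (iχ.sub hEF) kχ
  have mψ : Mor F (img χ P) (⇑(g₂ * a * χ⁻¹)) := mφ.mul (iχ.symm.mor.sub hEF) fun x hx => iχ.symm.mem hx
  have eψ : ∀ x ∈ A', (g₂ * a * χ⁻¹) x = x := fun y hy => by
    obtain ⟨x, hx, rfl⟩ := kχ.exists_eq hy
    rw [Perm.mul_apply, perm_inv_apply, eχ x hx]
  obtain ⟨N, hN⟩ := exists_isNK F fn.1 (AutK S A') rfl
  haveI := finite_AutF' F fn.1
  have sN : Sat N p := hN.sat hF (fkn_of_fc_syl hF.pg (hF.fc_of_fn fn') (by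
    rw [inf_idem, inf_eq_right.2 (AutK_le_AutF F le_rfl fn.1)]; exact sylIn_self (isPGroup_AutK hF.pg _)))
  have mp : ∀ {R} {f : Perm Ω}, Mor N R f → A' ≤ R → Maps f A' A' ∧ res A' f ∈ AutK S A' := fun {R f} hf hle => by
    obtain ⟨g, -, e, k1, k2⟩ := hN.nMor hf
    have e' := fun x (hx : x ∈ A') => (e x (hle hx)).symm
    exact ⟨k1.congr e', res_congr k1 e' ▸ k2⟩
  have cl : Closed N fun R f => ∀ R' ≤ R, Nat.card R' = Nat.card P → Det F p A' R' → Mor E R' f :=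
    ⟨fun c e R' hle h1 h2 => (c R' hle h1 h2).congr fun x hx => e x (hle hx),
      fun c hle R' hle' => c R' (hle'.trans hle), fun i j c d R' hle h1 h2 => ?_, fun i c R' hle h1 h2 => ?_⟩
  rotate_left
  · have i' := i.restrict hle
    exact (d _ (img_le_iff.2 fun x hx => i.mem (hle hx)) (i'.card_eq.symm.trans h1)
      (h2.iso (i'.sub hN.sub) (mp i'.mor h2.1).1)).mul (c R' hle h1 h2) fun x hx => i'.mem hx
  · have i' := i.symm.restrict hle
    have := (c _ (img_le_iff.2 fun x hx => i.symm.mem (hle hx)) (i'.card_eq.symm.trans h1)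
      (h2.iso (i'.sub hN.sub) (mp i'.mor h2.1).1)).inv i'.symm.maps
    exact this
  have hψ : Mor E (img χ P) (⇑(g₂ * a * χ⁻¹)) := by
    haveI := hN.finite
    have kψ : Maps (g₂ * a * χ⁻¹) A' A' := (maps_one A').congr eψ
    refine sN.alperin_p' cl (fun g hg R hle _ _ => mor_cp E (hle.trans hN.T_le) (hN.T_le hg))
      (fun R hR b hb hc R' hle h1 h2 => ?_) _ _ (hN.mor_of_le mψ (fun y hy => ?_) dA'.1 kψ
        (by rw [(res_eq_one_iff kψ).2 eψ]; exact one_mem _)) _ le_rfl iχ.card_eq.symm dA'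
    · have hRT := (sN.base_fcr hR).1.1
      have ib := iso_of_AutF hRT hb
      haveI := finite_of_le hRT
      rcases hle.lt_or_eq with hlt | rfl
      · exact (ih R b (h1 ▸ Fus.card_lt_card hlt) (ib.mor.sub hN.sub)).mono hle
      · obtain ⟨k1, k2⟩ := mp ib.mor h2.1
        obtain ⟨k, hk⟩ := isPGroup_AutK hF.pg _ ⟨_, k2⟩
        refine (mor_one E (hRT.trans hN.T_le)).congr (h2.2 b (AutF_mono hN.sub _ hb) hc fun x hx =>
          fix_of_pow_fix (k := k) hc ?_)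
        rw [← res_apply (k1.pow _) hx, res_pow k1, show res A' b ^ p ^ k = 1 from congrArg Subtype.val hk, Perm.one_apply]
    · obtain ⟨x, hx, rfl⟩ := iχ.maps.exists_eq hy
      have := mχ.mem_NS le_sup_right kχ (mem_sup_left hx) (nA hx)
      exact mem_NK.2 ⟨this, cr_mem_AutK this.1 this.2⟩
  have i₃ := (m₂.mono n₂).iso
  exact (i₃.symm.mor.comp (hψ.mul iχ.mor fun x hx => iχ.mem hx) fun x hx => by
    simpa using i₃.mem (ia.mem hx)).congr fun x _ => by simp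

theorem normal_S_of_pact (hF : Sat F p) (h : ∀ P ≤ S, ∀ D ≤ P ⊓ F.hyperfocalSubgroup p, AutF F P ≤ Stab D →
    (∀ x ∈ D, x ^ sq p = 1) → PAct p (AutF F P) (AutK S P) D) : F.IsNormal S := by
  refine hF.normal_S fun P hP => ?_
  obtain ⟨h1, h2, h3⟩ := hF.base_fcr (Or.inr hP)
  obtain ⟨D, k1, k2, k3, k4⟩ := exists_smD_hyp hF h1.1
  haveI := finite_AutF' F h1.1
  refine (lt_NS hF.pg (hF.ess_lt hP)).not_ge (le_of_pact hF.pg h2 h3 (NS_le _ _)
    ((le_NS h1.1).trans le_normalizer) ?_)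
  rw [AutK_NS]
  exact (h P h1.1 D k1 k2 k3).upgrade k4

omit [Finite S] in
theorem card_zpowers_sq {x : Ω} (hx : x ^ sq p = 1) (h1 : x ≠ 1) :
    Nat.card (zpowers x) = p ∨ Nat.card (zpowers x) = 4 := by
  by_cases h : x ^ p = 1
  · exact Or.inl (PGrp.card_zpowers_of_pow_eq_one h h1)
  · unfold sq at hx
    split_ifs at hx with h2
    · subst h2
      exact Or.inr (by rw [Nat.card_zpowers]; exact orderOf_eq_prime_pow (p := 2) (n := 1) (by simpa using h) hx)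
    · exact absurd hx h

end Cfsg.Agent.PLocal
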