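import Cfsg.Agent.PLocal.StabG
import Cfsg.Agent.Fus.Xt

/-! `p`-stable fusion systems (`StabF`), their local characterisations, constraint of stable group fusion systems,
`Qd(p)`-free group fusion systems, and nilpotency criteria via stable constrained witnesses (`inner_of_wit`). -/

set_option autoImplicit false

namespace Cfsg.Agent.PLocal

open Subgroup Cfsg Cfsg.Agent.Loc Cfsg.Agent.Fus Equiv
open Cfsg.FusionSystem (normalizerIn centralizerIn)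
open scoped commutatorElement

section stab

variable {Ω : Type*} [Group Ω] {S T P Q R H : Subgroup Ω} {p : ℕ} {F : FusionSystem S}

/-- `a` acts quadratically on `P`. -/
def QuadP (P : Subgroup Ω) (a : Perm Ω) : Prop := ∀ x ∈ P, a (x⁻¹ * a x) = x⁻¹ * a x

def StabAt (F : FusionSystem S) (p : ℕ) (Q : Subgroup Ω) : Prop :=
  ∀ a ∈ AutF F Q, QuadP Q a → a ∈ pCoreOf p (AutF F Q)

/-- `p`-stable fusion systems. -/
def StabF (F : FusionSystem S) (p : ℕ) : Prop := ∀ Q ≤ S, StabAt F p Q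

theorem StabAt.of_iso {f : Perm Ω} (hf : Iso F f P Q) (h : StabAt F p Q) : StabAt F p P := fun a ha hq => by
  have h1 := h _ (hf.conj_mem ha) fun y hy => by
    obtain ⟨x, hx, rfl⟩ := hf.maps.exists_eq hy
    have h2 := (maps_of_AutF ha).mem hx
    simp only [Perm.mul_apply, perm_inv_apply]
    rw [← hf.homOn.map_inv_mul hx h2, perm_inv_apply, hq x hx]
  rw [← hf.cj_AutF, ← cj_pCoreOf] at h1
  exact conj_mem_cj_iff.1 h1

theorem stabAt_iff : StabAt F p Q ↔ ∀ χ : MulAut Q, χ ∈ F.autGroup Q → (∀ a : Q, χ a⁻¹ * a * χ a⁻¹ * χ (χ a) = 1) →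
    χ ∈ (pCore p (F.autGroup Q)).map (F.autGroup Q).subtype := by
  have key : ∀ χ : MulAut Q, QuadP Q (toPerm Q χ) ↔ ∀ a : Q, χ a⁻¹ * a * χ a⁻¹ * χ (χ a) = 1 := fun χ => by
    have : ∀ a : Q, toPerm Q χ ((a : Ω)⁻¹ * toPerm Q χ a) = (a : Ω)⁻¹ * toPerm Q χ a ↔
        χ a⁻¹ * a * χ a⁻¹ * χ (χ a) = 1 := fun a => by
      rw [toPerm_coe, ← coe_inv, ← coe_mul, toPerm_coe, Subtype.coe_inj, map_mul, mul_assoc, mul_eq_one_iff_inv_eq,
        map_inv, _root_.mul_inv_rev, inv_inv, eq_comm]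
    exact ⟨fun h a => (this a).1 (h a a.2), fun h x hx => (this ⟨x, hx⟩).2 (h _)⟩
  constructor
  · intro h χ h1 h2
    have := h _ (toPerm_mem_AutF.2 h1) ((key χ).2 h2)
    rwa [← map_pCore_autGroup, toPerm_mem_map] at this
  · rintro h _ ⟨χ, h1, rfl⟩ h2
    rw [← map_pCore_autGroup, toPerm_mem_map]
    exact h χ h1 ((key χ).1 h2)

theorem stabF_iff_fn [Finite S] : StabF F p ↔ ∀ Q, F.IsFullyNormalized Q → StabAt F p Q :=
  ⟨fun h Q hQ => h Q hQ.1, fun h P hP => let ⟨_, Q, h1, h2⟩ := exists_fn F hP; (h Q h2).of_iso h1⟩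

theorem stabF_iff [Finite S] : (∀ Q, F.IsFullyNormalized Q → ∀ χ : MulAut Q, χ ∈ F.autGroup Q →
    (∀ a : Q, χ a⁻¹ * a * χ a⁻¹ * χ (χ a) = 1) → χ ∈ (pCore p (F.autGroup Q)).map (F.autGroup Q).subtype) ↔ StabF F p := by
  simp only [stabF_iff_fn, stabAt_iff]

theorem StabF.sub {E : FusionSystem T} (h : StabF F p) (hE : E.IsSubsystemOf F) : StabF E p := fun Q hQ a ha hq =>
  pCoreOf_inf_le (AutF_mono hE Q) ⟨h Q (hQ.trans (sub_le hE)) a (AutF_mono hE Q ha) hq, ha⟩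

theorem StabAt.of_eq {E : FusionSystem T} (h : StabAt E p Q) (e : AutF E Q = AutF F Q) : StabAt F p Q := by
  unfold StabAt at h ⊢
  rwa [← e]

theorem cr_mem_pCoreOf_iff (hH : H ≤ normalizer (Q : Set Ω)) {g : Ω} (hg : g ∈ H) :
    cr Q g ∈ pCoreOf p (AutK H Q) ↔ g ∈ opMod p H (centralizer (Q : Set Ω)) := by
  have h := (homOn_cr Q).mono hH
  rw [AutK_eq_img' hH, h.img_eq_range, opMod_eq_comap h.toHom.rangeRestrict_surjective (by
    ext x
    rw [MonoidHom.ker_rangeRestrict, MonoidHom.mem_ker, mem_subgroupOf]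
    exact cr_eq_one_iff (hH x.2))]
  constructor
  · rintro ⟨y, hy, e⟩
    exact ⟨⟨g, hg⟩, show h.toHom.rangeRestrict ⟨g, hg⟩ ∈ pCore p _ from
      (Subtype.ext e : y = h.toHom.rangeRestrict ⟨g, hg⟩) ▸ hy, rfl⟩
  · rintro ⟨y, hy, rfl⟩
    exact ⟨_, hy, rfl⟩

theorem quadP_cr {g : Ω} (hg : g ∈ normalizer (Q : Set Ω)) : QuadP Q (cr Q g) ↔ ⁅⁅Q, zpowers g⁆, zpowers g⁆ = ⊥ := by
  have : ∀ x ∈ Q, cr Q g (x⁻¹ * cr Q g x) = x⁻¹ * cr Q g x ↔ Commute ⁅x⁻¹, g⁆ g := fun x hx => by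
    rw [cr_apply hg hx, cr_apply hg (mul_mem (inv_mem hx) (conj_mem_of_mem_normalizer hg hx)),
      show x⁻¹ * (g * x * g⁻¹) = ⁅x⁻¹, g⁆ by rw [commutatorElement_def]; group, mul_inv_eq_iff_eq_mul, eq_comm]
    rfl
  rw [quad_iff]
  exact ⟨fun h x hx => inv_inv x ▸ (this _ (inv_mem hx)).1 (h _ (inv_mem hx)), fun h x hx => (this x hx).2 (h _ (inv_mem hx))⟩

theorem stabAt_grp (h : GrpFS F ⊤) (hQ : Q ≤ S) : StabAt F p Q ↔ StableOn p (normalizer (Q : Set Ω)) Q := by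
  have e : AutF F Q = AutK (normalizer (Q : Set Ω)) Q := by
    rw [h.AutF_eq hQ, AutK_eq_img, AutK_eq_img, top_inf_eq, inf_idem]
  unfold StabAt
  rw [e]
  refine ⟨fun h g hg hq => (cr_mem_pCoreOf_iff le_rfl hg).1 (h _ (cr_mem_AutK hg hg) ((quadP_cr hg).2 hq)),
    fun h a ha hq => ?_⟩
  obtain ⟨g, hg, -, rfl⟩ := mem_AutK.1 ha
  exact (cr_mem_pCoreOf_iff le_rfl hg).2 (h g hg ((quadP_cr hg).1 hq))

theorem stabF_grp [Finite Ω] [Fact p.Prime] (h : GrpFS F ⊤) (hS : SylIn p S ⊤) : StabF F p ↔ NStab p Ω := by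
  refine ⟨fun h1 Q hQ => ?_, fun h1 Q hQ => (stabAt_grp h hQ).2 (h1 Q (hS.pg.to_le hQ))⟩
  obtain ⟨g, -, hg⟩ := hS.exists_conj_le le_top hQ
  have h2 := (stabAt_grp h hg).1 (h1 _ hg)
  refine StableOn.of_map_inj (f := (MulAut.conj g).toMonoidHom) (MulAut.conj g).injective le_rfl ?_
  exact h2.mono le_rfl (le_normalizer_map _)

theorem stabAt_of_cyclic [Fact p.Prime] (hQ : IsPGroup p Q) [Finite Q] [IsCyclic Q] : StabAt F p Q := fun a ha hq => by
  have hm := maps_of_AutF ha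
  have hh := homOn_of_AutF ha
  obtain ⟨k, hk⟩ := IsPGroup.iff_card.1 hQ
  have h1 : ∀ n : ℕ, ∀ x ∈ Q, (a ^ n) x = x * (x⁻¹ * a x) ^ n := fun n x hx => by
    have h2 := mul_mem (inv_mem hx) (hm.mem hx)
    induction n with
    | zero => simp
    | succ n ih => rw [pow_succ', Perm.mul_apply, ih, hh.map_mul hx (pow_mem h2 n), hh.map_pow h2, hq x hx, pow_succ',
        ← mul_assoc, mul_inv_cancel_left]
  have h2 : a ^ p ^ k = 1 := (supp_of_AutF (pow_mem ha _)).eq_one fun x hx => by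
    have := congrArg Subtype.val (pow_card_eq_one' (x := (⟨_, mul_mem (inv_mem hx) (hm.mem hx)⟩ : Q)))
    rw [hk] at this
    rw [h1 _ x hx, show (x⁻¹ * a x) ^ p ^ k = 1 from this, mul_one]
  refine le_pCoreOf (zpowers_le.2 ha) (le_normalizer_of_le_centralizer fun b hb => ?_) (isPGroup_zpowers_of_pow h2)
    (mem_zpowers a)
  rintro _ ⟨n, rfl⟩
  obtain ⟨α, -, rfl⟩ := ha
  obtain ⟨β, -, rfl⟩ := hb
  refine (Commute.zpow_left (Commute.map ?_ (toPerm Q)) n).eq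
  obtain ⟨g, hg⟩ := IsCyclic.exists_generator (α := Q)
  obtain ⟨i, hi⟩ := hg (α g)
  obtain ⟨j, hj⟩ := hg (β g)
  refine MulEquiv.toMonoidHom_injective (MonoidHom.eq_of_eqOn_dense (s := {g}) ?_ ?_)
  · rw [← zpowers_eq_closure, eq_top_iff]; exact fun x _ => hg x
  · rintro _ rfl
    change α (β _) = β (α _)
    simp only at hi hj
    rw [← hi, ← hj, map_zpow, map_zpow, ← hi, ← hj, ← zpow_mul, ← zpow_mul, mul_comm]

variable [Finite S] [Fact p.Prime]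

theorem stabF_iff_noncyclic (hS : IsPGroup p S) : StabF F p ↔ ∀ R, F.IsFullyNormalized R → ¬ IsCyclic R →
    ∀ N : FusionSystem (normalizerIn S R), F.IsNormalizerSystem R N → StabF N p := by
  refine ⟨fun h R hR _ N hN => h.sub (isNK_top_iff.2 ⟨hR.1, hN⟩).sub, fun h => stabF_iff_fn.2 fun Q hQ => ?_⟩
  by_cases hc : IsCyclic Q
  · haveI := finite_of_le hQ.1
    exact stabAt_of_cyclic (hS.to_le hQ.1)
  obtain ⟨N, h1, h2⟩ := exists_normalizerSystem F hQ.1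
  exact (h Q hQ hc N h2 Q (le_NS hQ.1)).of_eq (by rw [h1.AutF_self (le_NS hQ.1), inf_top_eq])

/-- The automizer of any subgroup is visible in the normalizer of a centric radical subgroup. -/
theorem exists_fcr_ext (hF : Sat F p) (hP : P ≤ S) : ∃ f Q R, Iso F f P Q ∧ Q ≤ R ∧ F.IsFullyNormalized R ∧
    F.IsCentric R ∧ F.IsRadical p R ∧ ∀ a ∈ AutF F Q, ∃ g, Iso F g R R ∧ ∀ x ∈ Q, g x = a x := by
  let C : Subgroup Ω → Prop := fun R => F.IsCentric R ∧ ∃ f Q, Iso F f P Q ∧ Q ≤ R ∧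
    ∀ a ∈ AutF F Q, ∃ g, Iso F g R R ∧ ∀ x ∈ Q, g x = a x
  have h0 : ∃ R, C R := by
    obtain ⟨f, Q, h1, h2⟩ := exists_fc F hP
    refine ⟨_, centric_sup_CS h2, f, Q, h1, le_sup_left, fun a ha => ?_⟩
    obtain ⟨g, h3, h4⟩ := hF.ext_CS h2 (iso_of_AutF h2.1 ha)
    have h5 := (maps_of_AutF ha).congr h4
    rw [sup_comm]
    exact ⟨g, ⟨h3, h3.homOn.maps_sup (fc_maps_CS h2 h3 h5) h5⟩, h4⟩
  obtain ⟨R₀, h0⟩ := h0
  suffices ∀ R ≤ S, C R → ∃ f Q R, Iso F f P Q ∧ Q ≤ R ∧ F.IsFullyNormalized R ∧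
      F.IsCentric R ∧ F.IsRadical p R ∧ ∀ a ∈ AutF F Q, ∃ g, Iso F g R R ∧ ∀ x ∈ Q, g x = a x from this R₀ h0.1.1 h0
  refine down_induction fun R hR ih ⟨hc, f, Q, h1, h2, h3⟩ => ?_
  obtain ⟨k, R', h4, h5⟩ := exists_fn F hR
  have h6 := h4.restrict h2
  have h7 : img k Q ≤ R' := img_le_iff.2 fun x hx => h4.mem (h2 hx)
  have hc' := centric_iso hc h4
  have h8 : ∀ a ∈ AutF F (img k Q), ∃ g, Iso F g R' R' ∧ ∀ x ∈ img k Q, g x = a x := fun a ha => by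
    obtain ⟨g, h8, h9⟩ := h3 _ (h6.symm.conj_mem ha)
    refine ⟨_, (h4.symm.trans h8).trans h4, fun x hx => ?_⟩
    rw [Perm.mul_apply, Perm.mul_apply, h9 _ (h6.symm.mem hx)]
    simp
  set O := pCoreOf p (AutF F R')
  have hI := Inn_le_pCore hF.pg F h5.1
  have hle : R' ≤ NK S R' O := Inn_le_NK h5.1 hI
  haveI := finite_AutF' F h5.1
  have hO : O ≤ AutK S R' := (hF.syl h5).pCoreOf_le
  rcases hle.eq_or_lt with e | e
  · refine ⟨_, _, R', h1.trans h6, h7, h5, hc', radical_iff.2 ⟨h5.1, le_antisymm ?_ hI⟩, h8⟩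
    calc O = AutK S R' ⊓ O := (inf_eq_right.2 hO).symm
      _ = AutK (NK S R' O) R' := (AutK_NK S R' O).symm
      _ ≤ _ := by rw [← e]
  refine ih (NK S R' O) (NK_le _ _ _) (h4.card_eq ▸ card_lt_card e) ⟨centric_mono hc' hle (NK_le _ _ _), _, _,
    h1.trans h6, h7.trans hle, fun a ha => ?_⟩
  obtain ⟨g, h9, h10⟩ := h8 a ha
  have h11 : cj g O = O := by rw [cj_pCoreOf, h9.cj_AutF]
  obtain ⟨g', h12, h13⟩ := rec_ext (hF.rec_of_fn h5) h9 (R := NK S R' O) (le_Ext_of_cj_le h9.maps (NK_le_NS _ _ _)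
    ((cj_mono g ((AutK_NK S R' O).le.trans inf_le_right)).trans (h11.le.trans hO)))
  rw [sup_eq_left.2 hle] at h12
  refine ⟨g', ⟨h12, h12.homOn.maps_self fun x hx => ?_⟩, fun x hx => (h13 x (h7 hx)).trans (h10 x hx)⟩
  have := h12.mem_NK hle (h9.maps.congr h13) hx hx
  rwa [cj_congr ((pCoreOf_le _ _).trans (AutF_le_AutOn _ _)) h9.maps h13, h11] at this

theorem stabF_iff_fcr (hF : Sat F p) : StabF F p ↔ ∀ R, F.IsFullyNormalized R → F.IsCentric R → F.IsRadical p R →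
    ∀ N : FusionSystem (normalizerIn S R), F.IsNormalizerSystem R N → StabF N p := by
  refine ⟨fun h R hR _ _ N hN => h.sub (isNK_top_iff.2 ⟨hR.1, hN⟩).sub, fun h P hP => ?_⟩
  obtain ⟨f, Q, R, h1, h2, h3, h4, h5, h6⟩ := exists_fcr_ext hF hP
  obtain ⟨N, h7, h8⟩ := exists_normalizerSystem F h3.1
  have h9 := h2.trans (le_NS h3.1)
  refine ((h R h3 h4 h5 N h8 Q h9).of_eq (le_antisymm (AutF_mono h7.sub Q) fun a ha => ?_)).of_iso h1
  obtain ⟨g, h10, h11⟩ := h6 a ha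
  exact (mem_AutF h9).2 ⟨h7.mor h9 ⟨g, (sup_eq_right.2 h2).symm ▸ h10.mor, h11, h10.maps, trivial⟩, supp_of_AutF ha⟩

end stab

theorem npc_quot_of_coatom {G : Type*} [Group G] [Finite G] {p : ℕ} [Fact p.Prime] (hp : p ≠ 2) {S : Subgroup G}
    (hS : SylIn p S ⊤) (hm : IsCoatom S) : HasNormalPComplement p (G ⧸ pCore p G) := by
  have hQ : pCore p G ≤ S := pCoreOf_top p G ▸ hS.pCoreOf_le
  let π := QuotientGroup.mk' (pCore p G)
  have h1 := hS.map π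
  rw [map_top_of_surjective π (QuotientGroup.mk'_surjective _)] at h1
  have h2 := isCoatom_map_mk hm hQ
  by_cases h0 : S.map π = ⊥
  · refine Transfer.hasNormalPComplement_of_not_dvd ?_
    have := h1.not_dvd_relIndex
    rwa [h0, relIndex_top_right, index_bot] at this
  refine S0659.result hp h1.toSylowTop (Transfer.hasNormalPComplement_of_isPGroup ?_)
  have h3 : S.map π ≤ normalizer (centerThompsonAOf (S.map π) : Set _) := ind_ZJAF (S.map π) ▸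
    le_norm_ind ZJAF_char h1.pg
  rcases (h2.le_iff.1 h3) with e | e
  · refine absurd (eq_bot_iff.2 ((le_pCore (normal_of_top_le_normalizer e.ge) ?_).trans
      (pCore_quotient_pCore p G).le)) ?_
    · exact ind_ZJAF (S.map π) ▸ ind_pg _ h1.pg
    · exact ind_ZJAF (S.map π) ▸ Transfer.functor_ne_bot (ind_functor ZJAF_char) h1.pg h0
  · change IsPGroup p (normalizer (centerThompsonAOf (S.map π) : Set (G ⧸ pCore p G)))
    rw [e]; exact h1.pg

section grp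

variable {G : Type*} [Group G] [Finite G] {S Q U : Subgroup G} {p : ℕ} [Fact p.Prime] {F : FusionSystem S}

omit [Fact p.Prime] in
theorem GrpFS.exists_of_nMor (h : GrpFS F ⊤) {P : Subgroup G} {f : G → G} (hf : NMor F Q ⊤ P f) :
    ∃ g ∈ normalizer (Q : Set G), ∀ x ∈ P, f x = g * x * g⁻¹ := by
  obtain ⟨g, h1, h2, h3, -⟩ := hf
  obtain ⟨y, -, hy⟩ := h.exists_of_mor h1
  exact ⟨y, maps_cp_iff.1 (h3.congr fun x hx => (hy x (mem_sup_right hx)).symm),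
    fun x hx => (h2 x hx).symm.trans (hy x (mem_sup_left hx))⟩

omit [Fact p.Prime] in
theorem GrpFS.exists_of_normal (h : GrpFS F ⊤) (hQ : F.IsNormal Q) {A : Subgroup G} (hA : A ≤ S) {g : G}
    (hg : cj g A ≤ S) : ∃ y ∈ normalizer (Q : Set G), ∀ x ∈ A, g * x * g⁻¹ = y * x * y⁻¹ :=
  GrpFS.exists_of_nMor h ((normal_iff_nMor.1 hQ).2 A _ (h.mor_cp hA trivial hg))

theorem GrpFS.normal_of_ctl (h : GrpFS F ⊤) (hS : SylIn p S ⊤) (hU : U ≤ S) (hn : S ≤ normalizer (U : Set G))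
    (hc : ControlsStrongFusion p U) : F.IsNormal U := by
  have : GrpFS F (normalizer (U : Set G)) := ⟨hn, fun P f => (h.mor_iff P f).trans (and_congr_right fun h1 =>
    and_congr_right fun h2 => ⟨fun ⟨g, _, hg⟩ => ?_, fun ⟨g, _, hg⟩ => ⟨g, trivial, hg⟩⟩)⟩
  · exact this.normal hU le_rfl
  obtain ⟨x, hx, h3⟩ := (controlsSF_iff (isSylowIn_of_sylIn hS) hU).1 hc P g h1 fun a ha => hg a ha ▸ h2 a ha
  exact ⟨x, hx, fun a ha => (hg a ha).trans (h3 a ha).symm⟩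

theorem GrpFS.normal_ZJA (hp : p ≠ 2) (h : GrpFS F ⊤) (hS : SylIn p S ⊤) (hst : NStab p G) :
    F.IsNormal (centerThompsonAOf S) :=
  ind_ZJAF S ▸ GrpFS.normal_of_ctl h hS (ind_le _ _) (le_norm_ind ZJAF_char hS.pg)
    ((sfok_single_iff ZJAF_char (isSylowIn_of_sylIn hS)).1 (sfok_ZJA_of_nstab hp G hst))

theorem GrpFS.constrained_of_nstab (hp : p ≠ 2) (h : GrpFS F ⊤) (hS : SylIn p S ⊤) (hst : NStab p G) :
    F.IsConstrained p := by
  have hF := h.sat hS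
  refine constrained_iff.2 ⟨hF.sat, by_contra fun hc => ?_⟩
  have hQ := normal_core F
  set Q := F.core
  set N := normalizer (Q : Set G)
  have hSN : S ≤ N := normal_le_normalizer hQ
  have hQN : Q ≤ N := le_normalizer
  have hi := N.subtype_injective
  have eQ := map_subgroupOf_eq_of_le hQN
  have eS := map_subgroupOf_eq_of_le hSN
  have eC : (S.subgroupOf N ⊓ centralizer (Q.subgroupOf N : Set N)).map N.subtype = centralizerIn S Q := by
    ext x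
    refine ⟨?_, fun hx => ⟨⟨x, hSN hx.1⟩, ⟨hx.1, fun y hy => Subtype.ext (hx.2 y hy)⟩, rfl⟩⟩
    rintro ⟨y, hy, rfl⟩
    exact ⟨hy.1, fun z hz => congrArg Subtype.val (hy.2 ⟨z, hQN hz⟩ hz)⟩
  obtain ⟨W, h1, h2, h3, h4, h5⟩ := exists_sc_step hp (hst.sub N) (hS.mono hSN le_top).subgroupOf_top
    (Q := Q.subgroupOf N) (hS.pg.to_le hQ.1).comap_subtype fun e => hc (eC.ge.trans ((map_mono e).trans eQ.le))
  have h6 : W.map N.subtype ≤ S := eS ▸ map_mono h1.1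
  refine h3 (map_le_iff_le_comap.1 (le_core (hF.normal_of_le_sup_CS hQ (sc_of_perm h6 ?_) (eQ ▸ map_mono h2) ?_ ?_)))
  · rintro _ ⟨x, hx, rfl⟩ f hf
    obtain ⟨g, hg, e⟩ := GrpFS.exists_of_nMor h ((normal_iff_nMor.1 hQ).2 _ f hf)
    have h7 := hf.mem_S (mem_zpowers _)
    rw [e _ (mem_zpowers _)] at h7 ⊢
    exact ⟨_, h1.2 x hx ⟨g, hg⟩ h7, rfl⟩
  · exact (map_mono h4).trans (by rw [Subgroup.map_sup, eC, eQ])
  · rw [← map_commutator, ← eQ]; exact map_mono h5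

theorem GrpFS.ci_of_npc (h : GrpFS F ⊤) (hS : SylIn p S ⊤) {H : Subgroup G} (hSH : S ≤ H)
    (hH : normalizer (Q : Set G) ≤ H) (hn : HasNormalPComplement p H) {P : Subgroup G} {f : Perm G}
    (hf : NMor F Q ⊤ P f) : CI S P f := by
  obtain ⟨g, hg, e⟩ := GrpFS.exists_of_nMor h hf
  have h1 := grpFS_sub H S hSH
  exact eq_inner_iff.1 ((h1.inner_iff (hS.mono hSH le_top)).2 hn) P f
    ((h1.mor_iff P f).2 ⟨hf.mor.le, fun _ => hf.mor.mem_S, g, hH hg, e⟩)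

end grp

universe u

theorem not_involves_of_free {p : ℕ} [Fact p.Prime] (hp : p ≠ 2) {G : Type u} [Group G] [Finite G] {S : Subgroup G}
    {F : FusionSystem S} (h : GrpFS F ⊤) (hS : SylIn p S ⊤) (hf : F.IsSectionFree p (qd p)) :
    ¬ Involves (⊤ : Subgroup G) (qd p) := fun hi => by
  have hF := h.sat hS
  obtain ⟨G', _, L, hL⟩ := exists_model_of_constrained hS.pg
    ((solv_of_free ZJAF_char (ZJ_normal_of_free hp) hF hf).constrained hF)
  haveI := hL.fin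
  obtain ⟨T₀, V₀, a₀, b₀, h0⟩ := exists_QP_of_involves hp hi
  obtain ⟨T, V, a, b, h1, h2⟩ := h0.exists_le hS
  have key : ∀ g ∈ closure {a, b}, ∃ g', ∀ x ∈ T, L (g * x * g⁻¹) = g' * L x * g'⁻¹ := fun g hg =>
    hL.toReal.exists (h.mor_cp h1 trivial ((cj_eq_of_mem_normalizer (h2.nT hg)).le.trans h1))
  obtain ⟨a', ha⟩ := key a (mem_closure_left a b)
  obtain ⟨b', hb⟩ := key b (mem_closure_right a b)
  exact free_model hf hL ((h2.transfer (hL.hom.mono h1) (fun x hx e => hL.inj x (h1 hx) e ▸ one_mem _) ha hb).involves hp)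

section wit

variable {p : ℕ} [Fact p.Prime] {Ω : Type u} [Group Ω] {S U : Subgroup Ω} [Finite S] {F : FusionSystem S}

/-- A constrained stable group with Sylow subgroup `S` whose fusion lies in `F`. -/
structure Wit (F : FusionSystem S) (p : ℕ) {G : Type u} [Group G] (L : Ω → G) : Prop where
  hom : HomOn L S
  inj : ∀ x ∈ S, L x = 1 → x = 1
  syl : SylIn p (img L S) ⊤
  max : IsCoatom (img L S)
  chp : Constr p G
  st : ∀ (X : Type u) [Group X], Involves (⊤ : Subgroup G) X → NStab p X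
  mor : ∀ P ≤ S, ∀ g, (∀ x ∈ P, g * L x * g⁻¹ ∈ img L S) → ∃ f : Perm Ω, Mor F P f ∧ ∀ x ∈ P, L (f x) = g * L x * g⁻¹

theorem exists_wit (hp : p ≠ 2) (hF : Sat F p) (hne : F ≠ innerFusionSystem S) :
    ∃ (G : Type u) (_ : Group G) (_ : Finite G) (L : Ω → G), Wit F p L := by
  obtain ⟨E, h1, h2, h3, h4⟩ := exists_sparse F hF hne
  obtain ⟨G, _, L, hL⟩ := exists_model_of_constrained hF.pg (sparse_constrained (fun _ => True)
    (fun _ _ _ _ => trivial) (fun hF _ => inner_of_chr_of_center JAF_char hF fun z => center_ctl_odd hp hF)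
    h1 trivial h3 h4)
  haveI := hL.fin
  have hlt : img L S < ⊤ := lt_top_iff_ne_top.2 fun e => h3 (hL.toReal.inner_of_npc hL.syl
    (Transfer.hasNormalPComplement_of_isPGroup ((e ▸ hL.syl.pg).of_equiv topEquiv)))
  obtain ⟨H, h5, hm⟩ := wellFounded_lt.has_min {H | img L S < H} ⟨⊤, hlt⟩
  replace h5 : img L S < H := h5
  have hH : ∀ x ∈ S, L x ∈ H := fun x hx => h5.le (mem_img_of_mem L hx)
  let j := ext1 (MonoidHom.id H)
  have hj : ∀ x ∈ S, (j (L x) : G) = L x := fun x hx => congrArg Subtype.val (ext1_apply (MonoidHom.id H) (hH x hx))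
  have e : img (fun x => j (L x)) S = (img L S).subgroupOf H := by rw [← hL.hom.img_img, img_ext1_id h5.le]
  have hS := (hL.syl.mono h5.le le_top).subgroupOf_top
  have hc : IsCoatom ((img L S).subgroupOf H) := ⟨fun h => h5.not_ge (subgroupOf_eq_top.1 h), fun K hK => by
    have h6 : img L S < K.map H.subtype :=
      map_subgroupOf_eq_of_le h5.le ▸ (map_lt_map_iff_of_injective H.subtype_injective).2 hK
    have h7 := eq_of_le_of_not_lt (map_subtype_le K) (hm _ h6)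
    exact map_injective H.subtype_injective (h7.trans (BG.map_subtype_top _).symm)⟩
  have hch : Constr p H := chP_iff.1 (hL.chp.of_pCoreOf_le le_top (hL.syl.pCoreOf_le.trans h5.le))
  refine ⟨H, inferInstance, inferInstance, fun x => j (L x), (homOn_ext1 _).comp hL.hom hH,
    fun x hx h => hL.inj x hx ((hj x hx).symm.trans (congrArg Subtype.val h)), e ▸ hS, e ▸ hc, hch,
    fun X _ hX => nstab_of_max hp (isSylowIn_of_sylIn hS) hc (npc_quot_of_coatom hp hS hc) X hX, fun P hP g hg => ?_⟩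
  obtain ⟨f, h6, h7⟩ := hL.toReal.exists_perm hP le_rfl (g := g) fun x hx => by
    have := hg x hx
    rw [e, mem_subgroupOf] at this
    simpa [hj x (hP hx)] using this
  exact ⟨f, h6.sub h2, fun x hx => Subtype.ext (by
    rw [hj _ (h7 x hx).1, (h7 x hx).2, coe_mul, coe_mul, hj x (hP hx), coe_inv])⟩

variable {G : Type u} [Group G] {L : Ω → G}

omit [Fact p.Prime] [Finite S] in
theorem Wit.mem_img (h : Wit F p L) {P : Subgroup Ω} (hP : P ≤ S) {x : Ω} (hx : x ∈ S) : L x ∈ img L P ↔ x ∈ P :=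
  ⟨fun h1 => let ⟨y, hy, e⟩ := (h.hom.mono hP).mem_img.1 h1; h.hom.injOn h.inj (hP hy) hx e ▸ hy, mem_img_of_mem L⟩

omit [Fact p.Prime] [Finite S] in
theorem Wit.sc (h : Wit F p L) {D : Subgroup Ω} (hD : F.StronglyClosed D) : IsStronglyClosed (img L D) (img L S) := by
  refine ⟨img_mono L hD.1, fun y hy g hg => ?_⟩
  obtain ⟨x, hx, rfl⟩ := (h.hom.mono hD.1).mem_img.1 hy
  obtain ⟨f, h1, h2⟩ := h.mor (zpowers x) (zpowers_le.2 (hD.1 hx)) g (by
    rintro _ ⟨n, rfl⟩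
    rw [h.hom.map_zpow (hD.1 hx), ← conj_zpow]
    exact zpow_mem hg n)
  rw [← h2 x (mem_zpowers x)]
  exact mem_img_of_mem L (sc_mem hD h1 (mem_zpowers x) hx)

omit [Finite S] in
theorem Wit.false [Finite G] (h : Wit F p L) (hU : U ≤ S) [hn : (img L U).Normal]
    (hb : ∀ P (f : Perm Ω), NMor F U ⊤ P f → CI S P f) : False := by
  have hQ : pCore p G ≤ img L S := pCoreOf_top p G ▸ h.syl.pCoreOf_le
  set Q := pCore p G
  refine h.max.1 (top_le_iff.1 fun g _ => ?_)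
  set P := h.hom.pre (Q ⊔ img L U)
  have hP : P ≤ S := h.hom.pre_le _
  have hUP : U ≤ P := fun x hx => ⟨hU hx, mem_sup_right (mem_img_of_mem L hx)⟩
  have h0 := sup_le hQ (img_mono L hU)
  obtain ⟨f, h1, h2⟩ := h.mor P hP g fun x hx => h0 (Subgroup.Normal.conj_mem inferInstance _ hx.2 g)
  haveI : Finite U := Finite.of_injective (fun x : U => L x) fun x y e =>
    Subtype.ext (h.hom.injOn h.inj (hU x.2) (hU y.2) e)
  obtain ⟨s, hs, h3⟩ := hb P f ⟨f, (sup_eq_left.2 hUP).symm ▸ h1, fun _ _ => rfl, (h1.homOn.mono hUP).maps_self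
    fun x hx => (h.mem_img hU (h1.mem_S (hUP hx))).1 (h2 x (hUP hx) ▸ hn.conj_mem _ (mem_img_of_mem L hx) g), trivial⟩
  have h4 : (L s)⁻¹ * g ∈ centralizer (Q : Set G) := inv_mul_mem_centralizer fun y hy => by
    obtain ⟨x, hx, rfl⟩ := h.hom.mem_img.1 (hQ hy)
    have h5 : x ∈ P := ⟨hx, mem_sup_left hy⟩
    rw [← h2 x h5, h3 x h5, h.hom.map_conj hs hx]
  exact ((img L S).mul_mem_cancel_left (inv_mem (mem_img_of_mem L hs))).1 (hQ (h.chp h4))

theorem inner_of_wit (hp : p ≠ 2) (hF : Sat F p) (hU : U ≤ S) (hb : ∀ P (f : Perm Ω), NMor F U ⊤ P f → CI S P f)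
    (key : ∀ (G : Type u) [Group G] [Finite G] (L : Ω → G), Wit F p L → (img L U).Normal) :
    F = innerFusionSystem S := by_contra fun hne => by
  obtain ⟨G, _, _, L, h⟩ := exists_wit hp hF hne
  haveI := key G L h
  exact h.false hU hb

theorem inner_of_sc (hp : p ≠ 2) {W : CF.{u}} (hW : IsCharPFunctor p W) (hn : ScNormal p W) (hF : Sat F p)
    {D : Subgroup Ω} (hD : F.StronglyClosed D) (hb : ∀ P (f : Perm Ω), NMor F (inducedFunctor W D) ⊤ P f → CI S P f) :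
    F = innerFusionSystem S :=
  inner_of_wit hp hF ((ind_le' W D).trans hD.1) hb fun G _ _ L h => by
    haveI := finite_of_le hD.1
    rw [img_ind hW (hF.pg.to_le hD.1) (h.hom.mono hD.1) fun x hx => h.inj x (hD.1 hx)]
    exact hn G h.chp (h.st G (involves_self G)) _ _ (isSylowIn_of_sylIn h.syl) (h.sc hD)

theorem inner_of_family (hp : p ≠ 2) (hF : Sat F p) {𝒜 : Set (Subgroup Ω)} {I : Subgroup Ω → Subgroup Ω}
    (hab : ∀ A ∈ 𝒜, A ≤ S ∧ IsMulCommutative A) (hne : 𝒜.Nonempty) (hI : ∀ Q, ∀ A ∈ 𝒜, A ≤ Q → I Q ≤ A)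
    (hI' : ∀ B ≤ S, (∀ A ∈ 𝒜, B ≤ A) → B ≤ I S) (hmono : ∀ Q ≤ S, I S ≤ I Q)
    (hinv : ∀ Q ≤ S, (∃ A ∈ 𝒜, A ≤ Q) → ∀ f : Perm Ω, Iso F f Q Q → ∀ x ∈ I Q, f x ∈ I Q)
    (hrep : ∀ B ≤ S, ⁅⁅B, B⁆, B⁆ = ⊥ → (∃ A ∈ 𝒜, ⁅B, B⁆ ≤ A ∧ ¬ B ≤ A) →
      ∃ A ∈ 𝒜, ⁅B, B⁆ ≤ A ∧ ¬ B ≤ A ∧ B ≤ normalizer (A : Set Ω))
    (hb : ∀ P (f : Perm Ω), NMor F (I S) ⊤ P f → CI S P f) : F = innerFusionSystem S := by
  obtain ⟨A₀, hA₀⟩ := hne
  have hA := hab A₀ hA₀
  have hU : I S ≤ A₀ := hI S A₀ hA₀ hA.1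
  refine inner_of_wit hp hF (hU.trans hA.1) hb fun G _ _ L h => ?_
  have hle : ∀ P ≤ S, ∀ Q ≤ S, img L P ≤ img L Q ↔ P ≤ Q := fun P hP Q hQ =>
    ⟨fun h1 x hx => (h.mem_img hQ (hP hx)).1 (h1 (mem_img_of_mem L hx)), img_mono L⟩
  have hpre : ∀ P ≤ S, ∀ Q, P ≤ h.hom.pre Q ↔ img L P ≤ Q := fun P hP Q => h.hom.le_pre_iff hP
  have hsurj : ∀ Q ≤ img L S, ∃ P ≤ S, img L P = Q := fun Q hQ => ⟨_, h.hom.pre_le _, h.hom.img_pre_of_le hQ⟩
  have e : ∀ P ≤ S, h.hom.pre (img L P) = P := fun P hP => le_antisymm (fun x hx => (h.mem_img hP hx.1).1 hx.2)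
    (h.hom.le_pre_img hP)
  have hab' : ∀ A ∈ 𝒜, img L A ≤ centralizer (img L A : Set G) := fun A hA => by
    rw [← comm_eq_bot_iff, ← h.hom.img_commutator (hab A hA).1 (hab A hA).1,
      comm_eq_bot_iff.2 (le_centralizer_self (hab A hA).2), h.hom.img_bot]
  have hinv' : ∀ Q ≤ img L S, (∃ A ∈ img L '' 𝒜, A ≤ Q) →
      normalizer (Q : Set G) ≤ normalizer (img L (I (h.hom.pre Q)) : Set G) := by
    rintro Q hQ ⟨_, ⟨A, hA, rfl⟩, h1⟩
    obtain ⟨P, hP, rfl⟩ := hsurj Q hQ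
    rw [e P hP]
    have h2 := (hle _ (hab A hA).1 _ hP).1 h1
    have h3 := (hI P A hA h2).trans h2
    refine le_normalizer_of_forall_conj fun g hg y hy => ?_
    obtain ⟨x, hx, rfl⟩ := (h.hom.mono (h3.trans hP)).mem_img.1 hy
    have h4 : ∀ x ∈ P, g * L x * g⁻¹ ∈ img L P := fun x hx => conj_mem_of_mem_normalizer hg (mem_img_of_mem L hx)
    obtain ⟨f, h5, h6⟩ := h.mor P hP g fun x hx => hQ (h4 x hx)
    haveI := finite_of_le hP
    rw [← h6 x (h3 hx)]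
    exact mem_img_of_mem L (hinv P hP ⟨A, hA, h2⟩ f ⟨h5, h5.homOn.maps_self fun x hx =>
      (h.mem_img hP (h5.mem_S hx)).1 (h6 x hx ▸ h4 x hx)⟩ x hx)
  have hst := (h.st G (involves_self G)).normal
  have h1 := inf_family_normal h.syl (𝒜 := img L '' 𝒜) (I := fun Q => img L (I (h.hom.pre Q)))
    (by rintro _ ⟨A, hA, rfl⟩; exact ⟨img_mono L (hab A hA).1, le_centralizer_iff_isMulCommutative.1 (hab' A hA)⟩)
    ⟨_, A₀, hA₀, rfl⟩ (by rintro Q _ ⟨A, hA, rfl⟩ h1; exact img_mono L (hI _ A hA ((hpre _ (hab A hA).1 _).2 h1)))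
    (fun B hB h1 => by
      obtain ⟨P, hP, rfl⟩ := hsurj B hB
      rw [e S le_rfl]
      exact img_mono L (hI' P hP fun A hA => (hle _ hP _ (hab A hA).1).1 (h1 _ ⟨A, hA, rfl⟩)))
    (fun Q _ => by rw [e S le_rfl]; exact img_mono L (hmono _ (h.hom.pre_le _))) hinv'
    (fun B hB h1 ⟨_, ⟨A, hA, rfl⟩, h2, h3⟩ => by
      obtain ⟨P, hP, rfl⟩ := hsurj B hB
      have h4 : ⁅P, P⁆ ≤ S := (comm_le_left le_normalizer).trans hP
      rw [← h.hom.img_commutator hP hP] at h1 h2 ⊢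
      rw [← h.hom.img_commutator h4 hP, eq_bot_iff, ← h.hom.img_bot,
        hle _ ((comm_le_right ((comm_le_left le_normalizer).trans le_normalizer)).trans hP) _ bot_le] at h1
      obtain ⟨A', h5, h6, h7, h8⟩ := hrep P hP (le_bot_iff.1 h1) ⟨A, hA, (hle _ h4 _ (hab A hA).1).1 h2,
        fun h5 => h3 (img_mono L h5)⟩
      exact ⟨_, ⟨A', h5, rfl⟩, img_mono L h6, fun h9 => h7 ((hle _ hP _ (hab _ h5).1).1 h9),
        h.hom.le_normalizer_img hP (hab _ h5).1 h8⟩) hst _ inferInstance (isPGroup_pCore p G)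
  have h2 := hinv' _ le_rfl ⟨_, ⟨A₀, hA₀, rfl⟩, img_mono L hA.1⟩
  simp only [e S le_rfl] at h1 h2
  rwa [inf_eq_right.2 (le_pCore_of_abelian_normal h.chp (hst _ (isPGroup_pCore p G)) (le_centralizer_iff_isMulCommutative.1
    ((img_mono L hU).trans ((hab' _ hA₀).trans (centralizer_anti (img_mono L hU)))))
    ((pCoreOf_top p G ▸ h.syl.pCoreOf_le).trans (le_normalizer.trans h2)))] at h1

end wit

end Cfsg.Agent.PLocal
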