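import Cfsg.Agent.PLocal.StabQ
import Cfsg.Agent.PLocal.Qd2
import Cfsg.Agent.Fus.PHom
import Cfsg.Agent.S0659

/-! Group-theoretic tools for `p`-stable fusion systems: quadratic pairs on sections (`QP`) and their transport,
`Qd(p)`-involvement via quadratic pairs, stability from `SL₂(p)`-free automizers, minimal overgroups of a Sylow
subgroup (`nstab_of_coatom`), and the axiomatic `ZJ`-theorem (`inf_family_normal`). -/

set_option autoImplicit false

namespace Cfsg.Agent.PLocal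

open Subgroup Cfsg Cfsg.Agent.Loc Cfsg.Agent.Fus
open scoped commutatorElement

variable {G G' : Type*} [Group G] [Group G'] {p : ℕ}

/-- `a`, `b` act quadratically on the section `T / V` and generate a non-`p`-group of automorphisms. -/
structure QP (p : ℕ) (T V : Subgroup G) (a b : G) : Prop where
  pg : IsPGroup p T
  le : V ≤ T
  nT : closure {a, b} ≤ normalizer (T : Set G)
  nV : closure {a, b} ⊔ T ≤ normalizer (V : Set G)
  qa : ∀ x ∈ T, ⁅⁅x, a⁆, a⁆ ∈ V
  qb : ∀ x ∈ T, ⁅⁅x, b⁆, b⁆ ∈ V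
  np : ∃ h ∈ closure {a, b}, ∀ k, ∃ x ∈ T, ⁅x, h ^ p ^ k⁆ ∉ V

/-- Pairs of elements acting compatibly along `L`. -/
def compat (L : G → G') (T : Subgroup G) : Subgroup (G × G') where
  carrier := {z | z.1 ∈ normalizer (T : Set G) ∧ ∀ x ∈ T, L (z.1 * x * z.1⁻¹) = z.2 * L x * z.2⁻¹}
  one_mem' := ⟨one_mem _, by simp⟩
  mul_mem' := fun {y z} hy hz => ⟨mul_mem hy.1 hz.1, fun x hx => by
    have := hy.2 _ (conj_mem_of_mem_normalizer hz.1 hx)
    rw [hz.2 x hx] at this
    simpa [mul_assoc] using this⟩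
  inv_mem' := fun {z} hz => ⟨inv_mem hz.1, fun x hx => by
    have := hz.2 _ (conj_mem_of_mem_normalizer (inv_mem hz.1) hx)
    simp only [inv_inv, mul_assoc, mul_inv_cancel_left, mul_inv_cancel, mul_one] at this
    simp [this, mul_assoc]⟩

theorem compat_comm {L : G → G'} {T : Subgroup G} (hL : HomOn L T) {z : G × G'} (hz : z ∈ compat L T) {x : G}
    (hx : x ∈ T) : L ⁅x, z.1⁆ = ⁅L x, z.2⁆ := by
  rw [commutatorElement_def, commutatorElement_def, mul_assoc, mul_assoc, ← mul_assoc z.1,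
    hL.map_mul hx (conj_mem_of_mem_normalizer hz.1 (inv_mem hx)), hz.2 _ (inv_mem hx), hL.map_inv hx]
  group

theorem closure_pair_le {a b : G} {H : Subgroup G} (ha : a ∈ H) (hb : b ∈ H) : closure {a, b} ≤ H :=
  (closure_le _).2 (by rintro _ (rfl | rfl); exacts [ha, hb])

theorem mem_closure_left (a b : G) : a ∈ closure ({a, b} : Set G) := subset_closure (by simp)
theorem mem_closure_right (a b : G) : b ∈ closure ({a, b} : Set G) := subset_closure (by simp)

theorem QP.transfer [Finite G'] {T V : Subgroup G} {a b : G} (h : QP p T V a b) {L : G → G'} (hL : HomOn L T)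
    (hk : ∀ x ∈ T, L x = 1 → x ∈ V) {a' b' : G'} (ha : ∀ x ∈ T, L (a * x * a⁻¹) = a' * L x * a'⁻¹)
    (hb : ∀ x ∈ T, L (b * x * b⁻¹) = b' * L x * b'⁻¹) : QP p (img L T) (img L V) a' b' := by
  have ha' : (a, a') ∈ compat L T := ⟨h.nT (mem_closure_left a b), ha⟩
  have hb' : (b, b') ∈ compat L T := ⟨h.nT (mem_closure_right a b), hb⟩
  have hn : ∀ z ∈ compat L T, ∀ U ≤ T, z.1 ∈ normalizer (U : Set G) → z.2 ∈ normalizer (img L U : Set G') :=
    fun z hz U hU hn => zpowers_le.1 (le_normalizer_of_forall_conj fun _ ⟨n, e⟩ y hy => by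
      obtain ⟨x, hx, rfl⟩ := (hL.mono hU).mem_img.1 hy
      have := (zpow_mem hz n).2 x (hU hx)
      rw [← e]
      change (z ^ n).2 * L x * (z ^ n).2⁻¹ ∈ _
      rw [← this]
      exact mem_img_of_mem L (conj_mem_of_mem_normalizer (zpow_mem hn n) hx))
  have hq : ∀ z ∈ compat L T, (∀ x ∈ T, ⁅⁅x, z.1⁆, z.1⁆ ∈ V) → ∀ y ∈ img L T, ⁅⁅y, z.2⁆, z.2⁆ ∈ img L V :=
    fun z hz hq y hy => by
      obtain ⟨x, hx, rfl⟩ := hL.mem_img.1 hy
      rw [← compat_comm hL hz hx, ← compat_comm hL hz (commElt_mem_left hx hz.1)]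
      exact mem_img_of_mem L (hq x hx)
  refine ⟨hL.isPGroup_img h.pg, img_mono L h.le, closure_pair_le (hn _ ha' T le_rfl ha'.1) (hn _ hb' T le_rfl hb'.1),
    sup_le (closure_pair_le (hn _ ha' V h.le (h.nV (mem_sup_left (mem_closure_left a b))))
      (hn _ hb' V h.le (h.nV (mem_sup_left (mem_closure_right a b)))))
      (hL.le_normalizer_img le_rfl h.le (le_sup_right.trans h.nV)), hq _ ha' h.qa, hq _ hb' h.qb, ?_⟩
  obtain ⟨g, hg, hnp⟩ := h.np
  have e1 : (closure {(a, a'), (b, b')}).map (MonoidHom.fst G G') = closure {a, b} := by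
    rw [MonoidHom.map_closure, Set.image_pair]; rfl
  have e2 : (closure {(a, a'), (b, b')}).map (MonoidHom.snd G G') = closure {a', b'} := by
    rw [MonoidHom.map_closure, Set.image_pair]; rfl
  obtain ⟨z, hz, rfl⟩ := e1.ge hg
  refine ⟨z.2, e2.le (mem_map_of_mem _ hz), fun k => ?_⟩
  obtain ⟨x, hx, h1⟩ := hnp k
  have h2 := pow_mem (closure_pair_le ha' hb' hz) (p ^ k)
  refine ⟨L x, mem_img_of_mem L hx, fun h3 => h1 ?_⟩
  rw [← show (z ^ p ^ k).2 = z.2 ^ p ^ k from rfl, ← compat_comm hL h2 hx] at h3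
  obtain ⟨v, hv, e⟩ := (hL.mono h.le).mem_img.1 h3
  have h4 := commElt_mem_left hx h2.1
  have := hk _ (mul_mem (inv_mem (h.le hv)) h4) (by rw [hL.map_inv_mul (h.le hv) h4, e, inv_mul_cancel])
  exact (V.mul_mem_cancel_left (inv_mem hv)).1 this

variable [Finite G] [Fact p.Prime]

theorem QP.not_stableOn {T : Subgroup G} {a b : G} (h : QP p T ⊥ a b) : ¬ StableOn p (closure {a, b}) T := by
  intro hs
  obtain ⟨g, hg, hnp⟩ := h.np
  have h1 : closure {a, b} ≤ opMod p (closure {a, b}) (centralizer (T : Set G)) := closure_pair_le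
    (hs a (mem_closure_left a b) (quad_iff.2 fun v hv => commutatorElement_eq_one_iff_commute.1 (h.qa v hv)))
    (hs b (mem_closure_right a b) (quad_iff.2 fun v hv => commutatorElement_eq_one_iff_commute.1 (h.qb v hv)))
  obtain ⟨k, hk⟩ := exists_pow_mem_of_mem_opMod (le_normalizer_centralizer h.nT) (h1 hg)
  obtain ⟨x, hx, h2⟩ := hnp k
  exact h2 (commutatorElement_eq_one_iff_commute.2 (mem_centralizer_iff.1 hk x hx))

theorem exists_QP_of_not_stableOn {H T : Subgroup G} (hT : IsPGroup p T) (hH : H ≤ normalizer (T : Set G))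
    (h : ¬ StableOn p H T) : ∃ a ∈ H, ∃ b ∈ H, QP p T ⊥ a b := by
  obtain ⟨a, ha, b, hb, h1, h2, h3⟩ := exists_pair_of_not_stableOn hH h
  refine ⟨a, ha, b, hb, hT, bot_le, (closure_pair_le ha hb).trans hH, le_normalizer_of_normal,
    fun x hx => commutatorElement_eq_one_iff_commute.2 (quad_iff.1 h1 x hx),
    fun x hx => commutatorElement_eq_one_iff_commute.2 (quad_iff.1 h2 x hx), ?_⟩
  push Not at h3
  obtain ⟨g, hg, h3⟩ := h3
  refine ⟨g, hg, fun k => by_contra fun h4 => h3 k (mem_centralizer_iff.2 fun x hx => ?_)⟩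
  push Not at h4
  exact commutatorElement_eq_one_iff_commute.1 (h4 x hx)

theorem QP.involves (hp : p ≠ 2) {T V : Subgroup G} {a b : G} (h : QP p T V a b) :
    Involves (⊤ : Subgroup G) (qd p) := by
  set K := closure {a, b} ⊔ T
  have hTK : T ≤ K := le_sup_right
  have ha : a ∈ K := mem_sup_left (mem_closure_left a b)
  have hb : b ∈ K := mem_sup_left (mem_closure_right a b)
  haveI : (V.subgroupOf K).Normal := (normal_subgroupOf_iff_le_normalizer (h.le.trans hTK)).2 h.nV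
  let π := QuotientGroup.mk' (V.subgroupOf K)
  have hL := homOn_ext1 π
  have h1 := h.transfer (hL.mono hTK) (fun x hx e => by
    rw [ext1_apply π (hTK hx)] at e
    exact mem_subgroupOf.1 ((QuotientGroup.eq_one_iff (N := V.subgroupOf K) _).1 e)) (fun x hx => hL.map_conj ha (hTK hx)) fun x hx => hL.map_conj hb (hTK hx)
  have h2 : img (ext1 π) V = ⊥ := eq_bot_iff.2 (img_le_iff.2 fun x hx => by
    rw [ext1_apply π (hTK (h.le hx))]
    exact (QuotientGroup.eq_one_iff _).2 hx)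
  rw [h2] at h1
  by_contra h3
  exact h1.not_stableOn (stableOn_of_not_involves_qd hp (fun h4 => h3 ((involves_sec K V).trans' (h4.mono le_top)))
    h1.pg h1.nT)

theorem QP.lift {f : G →* G'} (hf : Function.Surjective f) {T' : Subgroup G'} {a' b' : G'} (h : QP p T' ⊥ a' b') :
    ∃ T V a b, QP p (G := G) T V a b := by
  obtain ⟨T, hT⟩ := exists_sylIn p (T'.comap f)
  have h1 : T.map f = T' := by
    have := hT.map f
    rw [map_comap_eq_self_of_surjective hf] at this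
    exact this.eq_of_isPGroup h.pg
  have h2 : ∀ y ∈ normalizer (T' : Set G'), ∃ x ∈ normalizer (T : Set G), f x = y := fun y hy => by
    obtain ⟨x, rfl⟩ := hf y
    obtain ⟨n, hn, u, hu, rfl⟩ := hT.frattini (le_normalizer_comap f hy)
    obtain ⟨t, ht, e⟩ := h1.ge hn
    exact ⟨t * u, mul_mem (le_normalizer ht) hu, by rw [map_mul, map_mul, e]⟩
  obtain ⟨a, ha, rfl⟩ := h2 _ (h.nT (mem_closure_left _ _))
  obtain ⟨b, hb, rfl⟩ := h2 _ (h.nT (mem_closure_right _ _))
  have h3 := closure_pair_le ha hb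
  have hq : ∀ c ∈ normalizer (T : Set G), (∀ y ∈ T', ⁅⁅y, f c⁆, f c⁆ ∈ (⊥ : Subgroup G')) →
      ∀ x ∈ T, ⁅⁅x, c⁆, c⁆ ∈ T ⊓ f.ker := fun c hc h x hx =>
    ⟨commElt_mem_left (commElt_mem_left hx hc) hc, by
      simpa [MonoidHom.mem_ker, map_commutatorElement] using h _ (hT.le hx)⟩
  refine ⟨T, T ⊓ f.ker, a, b, hT.pg, inf_le_left, h3,
    le_normalizer_inf (sup_le h3 le_normalizer) le_normalizer_of_normal, hq a ha h.qa, hq b hb h.qb, ?_⟩
  obtain ⟨g, hg, hnp⟩ := h.np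
  rw [← Set.image_pair, ← MonoidHom.map_closure] at hg
  obtain ⟨g, hg, rfl⟩ := hg
  refine ⟨g, hg, fun k => ?_⟩
  obtain ⟨y, hy, h4⟩ := hnp k
  obtain ⟨x, hx, rfl⟩ := h1.ge hy
  exact ⟨x, hx, fun h5 => h4 (by simpa [MonoidHom.mem_ker, map_commutatorElement] using h5.2)⟩

theorem not_nstab_qd (hp : p ≠ 2) : ¬ NStab p (qd p) := fun h =>
  not_sfok_of_qd (MulEquiv.refl _) (single_char ZJAF_char) (sfok_ZJA_of_nstab hp _ h)

theorem exists_QP_of_involves (hp : p ≠ 2) (h : Involves (⊤ : Subgroup G) (qd p)) :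
    ∃ T V a b, QP p (G := G) T V a b := by
  obtain ⟨K, -, f, hf⟩ := h
  obtain ⟨P, hP, h1⟩ : ∃ P : Subgroup (qd p), IsPGroup p P ∧ ¬ StableOn p (normalizer (P : Set (qd p))) P := by
    by_contra! h1
    exact not_nstab_qd hp h1
  obtain ⟨a', -, b', -, h2⟩ := exists_QP_of_not_stableOn hP le_rfl h1
  obtain ⟨T, V, a, b, h3⟩ := h2.lift hf
  exact ⟨_, _, _, _, h3.transfer (homOn_hom K.subtype T) (fun x _ e => (Subtype.ext e : x = 1) ▸ one_mem _)
    (a' := a) (b' := b) (fun _ _ => rfl) fun _ _ => rfl⟩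

theorem QP.exists_le {T V S : Subgroup G} {a b : G} (h : QP p T V a b) (hS : SylIn p S ⊤) :
    ∃ T V a b, T ≤ S ∧ QP p T V a b := by
  obtain ⟨g, -, hg⟩ := hS.exists_conj_le le_top h.pg
  refine ⟨_, _, _, _, ?_, h.transfer (homOn_hom (MulAut.conj g).toMonoidHom T) (fun x _ e => by
    rw [(MulAut.conj g).injective (e.trans (map_one _).symm)]; exact one_mem _)
    (a' := g * a * g⁻¹) (b' := g * b * g⁻¹) (fun _ _ => by simp [mul_assoc]) fun _ _ => by simp [mul_assoc]⟩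
  rwa [img_hom]

omit [Finite G] [Fact p.Prime] in
theorem exists_section_of_involves_range {N : Subgroup G} (φ : N →* G') {X : Type*} [Group X]
    (h : Involves φ.range X) : ∃ (H K : Subgroup G) (_ : (K.subgroupOf H).Normal),
      φ.ker.map N.subtype ≤ K ∧ K ≤ H ∧ H ≤ N ∧ Nonempty ((H ⧸ K.subgroupOf H) ≃* X) := by
  obtain ⟨K', hK', f, hf⟩ := h
  set H := (K'.comap φ).map N.subtype
  have hH : H ≤ N := map_subtype_le _
  have hm : ∀ x : H, φ (inclusion hH x) ∈ K' := fun ⟨_, y, hy, rfl⟩ => hy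
  let ψ : H →* X := f.comp ((φ.comp (inclusion hH)).codRestrict K' hm)
  have hψ : Function.Surjective ψ := fun y => by
    obtain ⟨⟨k, hk⟩, rfl⟩ := hf y
    obtain ⟨n, rfl⟩ := hK' hk
    exact ⟨⟨n, n, hk, rfl⟩, rfl⟩
  have e : (ψ.ker.map H.subtype).subgroupOf H = ψ.ker := comap_map_eq_self_of_injective H.subtype_injective _
  haveI : ((ψ.ker.map H.subtype).subgroupOf H).Normal := e.symm ▸ inferInstance
  refine ⟨H, ψ.ker.map H.subtype, this, ?_, map_subtype_le _, hH,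
    ⟨(QuotientGroup.quotientMulEquivOfEq e).trans (QuotientGroup.quotientKerEquivOfSurjective ψ hψ)⟩⟩
  rintro _ ⟨n, hn, rfl⟩
  have h1 : φ n = 1 := hn
  refine ⟨⟨n, n, by rw [SetLike.mem_coe, mem_comap, h1]; exact one_mem _, rfl⟩, ?_, rfl⟩
  exact (congrArg f (Subtype.ext h1)).trans (map_one f)

theorem stableOn_of_automizer (hp : p ≠ 2) {P : Subgroup G} (hP : IsPGroup p P)
    (h : ¬ ∃ (H K : Subgroup G) (_ : (K.subgroupOf H).Normal), centralizer (P : Set G) ≤ K ∧ K ≤ H ∧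
      H ≤ normalizer (P : Set G) ∧ Nonempty ((H ⧸ K.subgroupOf H) ≃* SL2 (ZMod p))) :
    StableOn p (normalizer (P : Set G)) P := by
  by_contra h1
  obtain ⟨a, ha, b, hb, h2⟩ := exists_QP_of_not_stableOn hP le_rfl h1
  let φ : normalizer (P : Set G) →* Equiv.Perm P := (MulAut.toPerm P).comp P.normalizerMonoidHom
  let l := MulAction.toPermHom P P
  have hc : ∀ g (hg : g ∈ normalizer (P : Set G)), ∀ x ∈ P,
      ext1 l (g * x * g⁻¹) = φ ⟨g, hg⟩ * ext1 l x * (φ ⟨g, hg⟩)⁻¹ := fun g hg x hx => by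
    rw [ext1_apply l hx, ext1_apply l (conj_mem_of_mem_normalizer hg hx), eq_mul_inv_iff_mul_eq]
    ext y
    change g * x * g⁻¹ * (g * y * g⁻¹) = g * (x * y) * g⁻¹
    group
  have h3 := h2.transfer (homOn_ext1 l) (fun x hx e => by
    rw [ext1_apply l hx] at e
    exact (mul_one x).symm.trans (congrArg Subtype.val (Equiv.congr_fun e 1))) (hc a ha) (hc b hb)
  rw [(homOn_ext1 l).img_bot] at h3
  refine h3.not_stableOn (stableOn_of_not_involves_SL2 hp (fun h4 => h ?_) h3.pg h3.nT)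
  obtain ⟨H, K, hn, h5, h6⟩ := exists_section_of_involves_range φ (h4.mono (closure_pair_le ⟨_, rfl⟩ ⟨_, rfl⟩))
  refine ⟨H, K, hn, fun c hc => h5 ⟨⟨c, centralizer_le_normalizer _ hc⟩, ?_, rfl⟩, h6⟩
  refine MonoidHom.mem_ker.2 (Equiv.ext fun y => Subtype.ext ?_)
  change c * y * c⁻¹ = y
  rw [← mem_centralizer_iff.1 hc y y.2, mul_inv_cancel_right]

omit [Finite G] in
theorem isSylowIn_of_sylIn {T H : Subgroup G} [Finite H] (h : SylIn p T H) : Transfer.IsSylowIn p T H :=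
  ⟨h.le, h.pg, h.not_dvd_relIndex⟩

/-- A group in which a Sylow subgroup is maximal is `p`-stable. -/
theorem nstab_of_coatom (hp : p ≠ 2) {S : Subgroup G} (hS : SylIn p S ⊤) (hm : IsCoatom S) : NStab p G := by
  have hQ : pCore p G ≤ S := pCoreOf_top p G ▸ hS.pCoreOf_le
  refine nstab_of_max hp (isSylowIn_of_sylIn hS) hm ?_ G (involves_self G)
  let π := QuotientGroup.mk' (pCore p G)
  have h1 := hS.map π
  rw [map_top_of_surjective π (QuotientGroup.mk'_surjective _)] at h1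
  have h2 := isCoatom_map_mk hm hQ
  by_cases h0 : S.map π = ⊥
  · refine Transfer.hasNormalPComplement_of_not_dvd ?_
    have := h1.not_dvd_relIndex
    rwa [h0, relIndex_top_right, index_bot] at this
  refine S0659.result hp h1.toSylowTop (Transfer.hasNormalPComplement_of_isPGroup ?_)
  have h3 : S.map π ≤ normalizer (centerThompsonAOf (S.map π) : Set _) := ind_ZJAF (S.map π) ▸
    le_norm_ind ZJAF_char h1.pg
  rcases (h2.le_iff.1 h3) with e | e
  · refine absurd (eq_bot_iff.2 ((le_pCore (normal_of_top_le_normalizer e.ge) ?_).trans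
      (pCore_quotient_pCore p G).le)) ?_
    · exact ind_ZJAF (S.map π) ▸ ind_pg _ h1.pg
    · exact ind_ZJAF (S.map π) ▸ Transfer.functor_ne_bot (ind_functor ZJAF_char) h1.pg h0
  · change IsPGroup p (normalizer (centerThompsonAOf (S.map π) : Set (G ⧸ pCore p G)))
    rw [e]; exact h1.pg

/-- The axiomatic `ZJ`-theorem for a family of abelian subgroups with invariance and replacement. -/
theorem inf_family_normal {S : Subgroup G} (hS : SylIn p S ⊤) {𝒜 : Set (Subgroup G)} {I : Subgroup G → Subgroup G}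
    (hab : ∀ A ∈ 𝒜, A ≤ S ∧ IsMulCommutative A) (hne : 𝒜.Nonempty) (hI : ∀ Q, ∀ A ∈ 𝒜, A ≤ Q → I Q ≤ A)
    (hI' : ∀ B ≤ S, (∀ A ∈ 𝒜, B ≤ A) → B ≤ I S) (hmono : ∀ Q ≤ S, I S ≤ I Q)
    (hinv : ∀ Q ≤ S, (∃ A ∈ 𝒜, A ≤ Q) → normalizer (Q : Set G) ≤ normalizer (I Q : Set G))
    (hrep : ∀ B ≤ S, ⁅⁅B, B⁆, B⁆ = ⊥ → (∃ A ∈ 𝒜, ⁅B, B⁆ ≤ A ∧ ¬ B ≤ A) →
      ∃ A ∈ 𝒜, ⁅B, B⁆ ≤ A ∧ ¬ B ≤ A ∧ B ≤ normalizer (A : Set G))
    (hst : ∀ (B : Subgroup G) [B.Normal], IsPGroup p B → StableOn p ⊤ B)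
    (B : Subgroup G) (hBn : B.Normal) (hB : IsPGroup p B) : (B ⊓ I S).Normal := by
  obtain ⟨S, rfl⟩ := hS.exists_sylow_top
  set Z := I S
  obtain ⟨A₀, hA₀⟩ := hne
  have hSZ : (S : Subgroup G) ≤ normalizer (Z : Set G) := le_normalizer.trans (hinv _ le_rfl ⟨A₀, hA₀, (hab _ hA₀).1⟩)
  have hZA : ∀ A ∈ 𝒜, Z ≤ A := fun A hA => hI _ A hA (hab A hA).1
  have hZ : Z ≤ centralizer (Z : Set G) :=
    (hZA _ hA₀).trans ((le_centralizer_self (hab _ hA₀).2).trans (centralizer_anti (hZA _ hA₀)))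
  induction B using WellFoundedLT.induction with
  | ind B ih =>
  have hBS : B ≤ S := (le_pCore hBn hB).trans (pCore_le_sylow S)
  have hle : normalClosure ((B ⊓ Z : Subgroup G) : Set G) ≤ B := normalClosure_le_normal inf_le_left
  rcases hle.lt_or_eq with hlt | he
  · have := ih _ hlt inferInstance (hB.to_le hle)
    rwa [show normalClosure ((B ⊓ Z : Subgroup G) : Set G) ⊓ Z = B ⊓ Z from
      le_antisymm (inf_le_inf_right _ hle) (le_inf le_normalClosure inf_le_right)] at this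
  have hcl : ∀ N : Subgroup G, N.Normal → B ⊓ Z ≤ N → B ≤ N := fun N _ h =>
    he ▸ normalClosure_le_normal h
  by_cases hb : B = ⊥
  · rw [hb, bot_inf_eq]; infer_instance
  haveI := isSolvable_of_isPGroup hB
  have hd := Solv.commutator_lt_of_isSolvable hb
  haveI := ih _ hd inferInstance (hB.to_le hd.le)
  have h1 : ⁅B, B⁆ ≤ Z := by
    have : B ≤ Sig.centMod B (⁅B, B⁆ ⊓ Z) := hcl _
      (normal_of_top_le_normalizer (le_normalizer_centMod le_normalizer_of_normal le_normalizer_of_normal))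
      (Sig.le_centMod_iff.2 ⟨le_normalizer_of_normal, le_inf (commutator_mono inf_le_left le_rfl)
        ((commutator_mono inf_le_right le_rfl).trans (comm_le_left (hBS.trans hSZ)))⟩)
    exact (Sig.le_centMod_iff.1 this).2.trans inf_le_right
  have h2 : ⁅B, B⁆ ≤ centralizer (B : Set G) := le_centralizer_iff.1 (hcl _ inferInstance
    (inf_le_right.trans (hZ.trans (centralizer_anti h1))))
  by_cases hall : ∀ A ∈ 𝒜, B ≤ A
  · rwa [inf_eq_left.2 (hI' B hBS hall)]
  push Not at hall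
  obtain ⟨U, hU, hU'⟩ := hall
  obtain ⟨A, hA, -, hA2, hA3⟩ := hrep B hBS (comm_eq_bot_iff'.2 h2) ⟨U, hU, h1.trans (hZA U hU), hU'⟩
  set L := (normalizer ((B ⊓ Z : Subgroup G) : Set G)).normalCore with hL
  have hOL : opMod p ⊤ L ≤ L := opMod_normalCore_le S (le_normalizer_inf le_normalizer_of_normal hSZ)
  have hCL : centralizer (B : Set G) ≤ L :=
    normal_le_normalCore.2 (le_normalizer_of_le_centralizer (centralizer_anti inf_le_left))
  have h7 : A ≤ (S : Subgroup G) ⊓ L := le_inf (hab A hA).1 (((hst B hB).le le_top (comm_eq_bot_iff'.2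
    ((comm_le_right hA3).trans (le_centralizer_self (hab A hA).2)))).trans ((opMod_mono ⊤ hCL).trans hOL))
  refine absurd ((hcl _ inferInstance (le_normalCore_of_cj fun g => ?_)).trans (normalCore_le _)) hA2
  obtain ⟨n, hn, l, hl, rfl⟩ := ((sylIn_top S).inf_normal' (N := L) le_top
    le_normalizer_of_normal).frattini' (g := g) (le_normalizer_of_normal (mem_top g))
  rw [← cj_cj, cj_eq_of_mem_normalizer (normalCore_le _ hl)]
  exact (cj_le_of_mem_normalizer (hinv _ inf_le_left ⟨A, hA, h7⟩ hn) (inf_le_right.trans (hmono _ inf_le_left))).trans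
    (hI _ A hA h7)

theorem NStab.of_surj (hp : p ≠ 2) (hst : NStab p G) {f : G →* G'} (hf : Function.Surjective f) (hk : IsPGroup p f.ker)
    (hc : pResidual p G ≤ centralizer (f.ker : Set G)) : NStab p G' :=
  (hst.quot hp hk hc).equiv (QuotientGroup.quotientKerEquivOfSurjective f hf)

theorem sc_ZJA_of_normal (hp : p ≠ 2) {K S : Subgroup G} [K.Normal] (hst : NStab p K) (hS : SylIn p S ⊤) :
    IsStronglyClosed (centerThompsonAOf (S ⊓ K)) S := by
  have hT := hS.inf_normal' (N := K) le_top le_normalizer_of_normal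
  set T := S ⊓ K
  have hU : centerThompsonAOf T ≤ T := ind_ZJAF T ▸ ind_le _ _
  have h1 := (sfok_single_iff ZJAF_char (isSylowIn_of_sylIn hT.subgroupOf_top)).1 (sfok_ZJA_of_nstab hp K hst)
  rw [ind_subgroupOf ZJAF_char hT.pg hT.le, ind_ZJAF] at h1
  refine ⟨hU.trans inf_le_left, fun x hx g hg => ?_⟩
  obtain ⟨k, hk, n, hn, rfl⟩ := hT.frattini (g := g) (le_normalizer_of_normal (mem_top g))
  have h2 : n * x * n⁻¹ ∈ centerThompsonAOf T :=
    conj_mem_of_mem_normalizer (ind_ZJAF T ▸ norm_ind ZJAF_char hT.pg hn) hx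
  have e : k * n * x * (k * n)⁻¹ = k * (n * x * n⁻¹) * k⁻¹ := by group
  obtain ⟨y, hy, h3⟩ := ctl_of_sub (isSylowIn_of_sylIn hT) hU h1 {n * x * n⁻¹} hk (by simpa using hU h2) (by
    rintro _ rfl
    exact ⟨e ▸ hg, ‹K.Normal›.conj_mem _ (hU h2).2 k⟩)
  rw [e, ← h3 _ rfl]
  exact conj_mem_of_mem_normalizer hy.2 h2

theorem exists_sc_step (hp : p ≠ 2) (hst : NStab p G) {S Q : Subgroup G} (hS : SylIn p S ⊤) [Q.Normal]
    (hQ : IsPGroup p Q) (h : ¬ S ⊓ centralizer (Q : Set G) ≤ Q) : ∃ W, IsStronglyClosed W S ∧ Q ≤ W ∧ ¬ W ≤ Q ∧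
      W ≤ Q ⊔ S ⊓ centralizer (Q : Set G) ∧ ⁅W, W⁆ ≤ Q := by
  have hQS : Q ≤ S := (le_pCore ‹_› hQ).trans (pCoreOf_top p G ▸ hS.pCoreOf_le)
  let π := QuotientGroup.mk' Q
  have hπ : Function.Surjective π := QuotientGroup.mk'_surjective Q
  have hk : π.ker = Q := QuotientGroup.ker_mk' Q
  set C := centralizer (Q : Set G)
  have h1 := hS.map π
  rw [map_top_of_surjective π hπ] at h1
  haveI : (C.map π).Normal := Subgroup.Normal.map inferInstance π hπ
  have h2 : NStab p (C.map π) := by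
    have e : (π.subgroupMap C).ker = Q.subgroupOf C := by
      ext x
      exact Subtype.ext_iff.trans (QuotientGroup.eq_one_iff _)
    refine (hst.sub C).of_surj hp (π.subgroupMap_surjective C) (e ▸ hQ.comap_subtype) fun x _ => ?_
    rw [e]
    exact mem_centralizer_iff.2 fun y hy => Subtype.ext (mem_centralizer_iff.1 x.2 y hy)
  have h3 := sc_ZJA_of_normal hp h2 h1
  have e : (S.map π ⊓ C.map π).comap π = Q ⊔ S ⊓ C := by
    rw [comap_inf, comap_map_eq, comap_map_eq, hk, sup_eq_left.2 hQS, sup_comm C,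
      BG.group_modl (Or.inr le_normalizer_of_normal) hQS]
  set T := S.map π ⊓ C.map π
  have hT : IsPGroup p T := h1.pg.to_inf_left
  have hU : centerThompsonAOf T ≤ T := ind_ZJAF T ▸ ind_le _ _
  refine ⟨(centerThompsonAOf T).comap π, ⟨(comap_mono h3.1).trans (comap_map_eq_self (hk.le.trans hQS)).le,
    fun x hx g hg => ?_⟩, hk.ge.trans (ker_le_comap _ _), fun h4 => ?_, (comap_mono hU).trans e.le, ?_⟩
  · have := h3.2 _ hx (π g) (by simpa using mem_map_of_mem π hg)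
    simpa using this
  · refine Transfer.functor_ne_bot (ind_functor ZJAF_char) hT (fun h5 => h ?_) ?_
    · exact le_sup_right.trans (e.ge.trans (by rw [h5]; exact hk.le))
    · rw [ind_ZJAF, ← map_comap_eq_self_of_surjective hπ (centerThompsonAOf T), Subgroup.map_eq_bot_iff, hk]
      exact h4
  · rw [commutator_le_iff_map_mk, map_comap_eq_self_of_surjective hπ, comm_eq_bot_iff]
    exact le_centralizer_self (isMulCommutative_inf_centralizer _)

end Cfsg.Agent.PLocal
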