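import Cfsg.Agent.PLocal.StabG

/-! Local-to-global control of strong fusion and transfer from the normalizers of subgroups containing the centre
of a Sylow subgroup (`wp_induction`, `sf_of_local_Z`, `tc_of_local_Z`), and list form of fusion chains. -/

set_option autoImplicit false

namespace Cfsg.Agent.PLocal

open Subgroup Cfsg Cfsg.Agent.Transfer Cfsg.Agent.BG Pointwise
open scoped commutatorElement

variable {G : Type*} [Group G] {p : ℕ}

theorem sf_iff_list {Q : Subgroup G} {Good : G → Prop} {X : Set G} (hX : X ⊆ Q) {g : G} :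
    SF Q Good X g ↔ ∃ c ∈ centralizer X, ∃ l : List G, (∀ b ∈ l, Good b⁻¹) ∧ g⁻¹ = c * l.prod ∧
      ∀ k ≤ l.length, ∀ x ∈ X, (l.take k).prod⁻¹ * x * (l.take k).prod ∈ Q := by
  constructor
  · intro h
    induction h with
    | one _ => exact ⟨1, one_mem _, [], by simp, by simp, fun k _ x hx => by simpa using hX hx⟩
    | @step c y _ h1 h2 ih =>
      obtain ⟨d, hd, l, h3, h4, h5⟩ := ih
      refine ⟨d, hd, l ++ [y⁻¹], fun b hb => ?_, by simp [h4, mul_assoc], fun k hk x hx => ?_⟩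
      · rcases List.mem_append.1 hb with hb | hb
        exacts [h3 b hb, by simpa [List.mem_singleton.1 hb] using h1]
      rcases (show k ≤ l.length + 1 by simpa using hk).eq_or_lt with e | e
      · have := h2 x hx
        rw [List.take_of_length_le (by simp [e]), List.prod_append, List.prod_singleton,
          show l.prod = d⁻¹ * c⁻¹ by rw [h4]; group]
        convert this using 1
        calc (d⁻¹ * c⁻¹ * y⁻¹)⁻¹ * x * (d⁻¹ * c⁻¹ * y⁻¹) = y * c * (d * x) * d⁻¹ * (y * c)⁻¹ := by group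
          _ = _ := by rw [← hd x hx]; group
      · rw [List.take_append_of_le_length (by omega)]
        exact h5 k (by omega) x hx
    | @congr c y _ h1 ih =>
      obtain ⟨d, hd, l, h3, h4, h5⟩ := ih
      refine ⟨y⁻¹ * c * d, mul_mem (fun x hx => ?_) hd, l, h3, by rw [mul_assoc, ← h4]; group, h5⟩
      calc x * (y⁻¹ * c) = y⁻¹ * (y * x * y⁻¹) * c := by group
        _ = _ := by rw [← h1 x hx]; group
  · rintro ⟨c, hc, l, h1, h2, h3⟩
    have : ∀ k ≤ l.length, SF Q Good X (l.take k).prod⁻¹ := fun k hk => by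
      induction k with
      | zero => simpa using SF.one hX
      | succ k ih =>
        have e := List.prod_take_succ l k hk
        rw [e, mul_inv_rev]
        exact SF.step (ih (by omega)) (h1 _ (List.getElem_mem _)) fun x hx => by
          simpa [e, mul_assoc] using h3 _ hk x hx
    refine (this _ le_rfl).congr fun x hx => ?_
    rw [List.take_length, show l.prod = c⁻¹ * g⁻¹ by rw [h2]; group]
    calc (c⁻¹ * g⁻¹)⁻¹ * x * (c⁻¹ * g⁻¹)⁻¹⁻¹ = g * (c * x) * c⁻¹ * g⁻¹ := by group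
      _ = _ := by rw [← hc x hx]; group

theorem sf_iff_fin {Q : Subgroup G} {Good : G → Prop} (hG : ∀ b, Good b → Good b⁻¹) {X : Set G} (hX : X ⊆ Q) {a : G} :
    SF Q Good X a⁻¹ ↔ ∃ c ∈ centralizer X, ∃ (n : ℕ) (b : Fin n → G), (∀ i, Good (b i)) ∧ a = c * (List.ofFn b).prod ∧
      ∀ k ≤ n, (fun x => ((List.ofFn b).take k).prod⁻¹ * x * ((List.ofFn b).take k).prod) ''
        ((fun x => c⁻¹ * x * c) '' X) ⊆ Q := by
  have e : ∀ c ∈ centralizer X, (fun x => c⁻¹ * x * c) '' X = X := fun c hc =>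
    (Set.image_congr fun x hx => by rw [mul_assoc, hc x hx, inv_mul_cancel_left]; rfl).trans (Set.image_id X)
  rw [sf_iff_list hX, inv_inv]
  refine exists_congr fun c => and_congr_right fun hc => ⟨fun ⟨l, h1, h2, h3⟩ => ⟨l.length, l.get,
    fun i => inv_inv (l.get i) ▸ hG _ (h1 _ (List.get_mem _ _)), by rwa [List.ofFn_get], fun k hk => ?_⟩,
    fun ⟨n, b, h1, h2, h3⟩ => ⟨List.ofFn b, fun y hy => ?_, h2, fun k hk x hx => ?_⟩⟩
  · rw [e c hc, List.ofFn_get]
    rintro _ ⟨x, hx, rfl⟩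
    exact h3 k hk x hx
  · obtain ⟨i, rfl⟩ := (List.mem_ofFn' _ _).1 hy
    exact hG _ (h1 i)
  · exact h3 k (by simpa using hk) ⟨x, (e c hc).ge hx, rfl⟩

variable [Finite G] [Fact p.Prime] {W : Subgroup G → Subgroup G} {T : Subgroup G}

theorem wp_induction (hW : IsConjugacyFunctor p W) (hWZ : ∀ P : Subgroup G, IsPGroup p P → Z[P] ≤ W P)
    (hT : IsSylowIn p T ⊤) (R : Subgroup G → G → Prop) (L : Subgroup G → Prop)
    (mono : ∀ D E g, D ≤ E → R E g → R D g)
    (trans : ∀ D g h, R D g → R (MulAut.conj g • D) h → R D (h * g))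
    (cen : ∀ D ≤ T, ∀ c ∈ C[D], R D c) (base : ∀ D ≤ T, L D → ∀ x ∈ N[D], R D x)
    (step : ∀ D, FNIn p ⊤ T D → Z[T] ≤ D → (T ⊓ N[D] < T → L (W (T ⊓ N[D]))) → L D)
    (D : Subgroup G) (g : G) (hD : D ≤ T) (hg : MulAut.conj g • D ≤ T) : R D g := by
  have key : ∀ E D : Subgroup G, WPIn p W ⊤ T D → Z[T] ≤ D → Nat.card E ≤ Nat.card (T ⊓ N[D] : Subgroup G) → L D := by
    intro E
    induction E using subgroup_induction_gt with
    | h E ih =>
    refine fun D hD hZ hc => step D (hD.fnIn hT) hZ fun h5 => ?_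
    refine ih _ (hc.trans_lt (card_lt_of_lt (lt_inf_normalizer_functor hW hT.isPGroup h5))) _ (hD.next hW hT.isPGroup)
      (le_trans (le_inf (le_inf inf_le_left (hZ.trans D.le_normalizer)) ?_) (hWZ _ hT.isPGroup.to_inf_left)) le_rfl
    exact inf_le_right.trans (centralizer_le inf_le_left)
  refine alperin_in hT (WPIn p W ⊤ T) (fun D hD => ?_) R (fun D E g _ h1 _ _ => mono D E g h1)
    (fun D g _ h _ _ _ _ => trans D g h) (fun D x _ h1 h2 h3 ih => ?_) D g trivial hD hg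
  · obtain ⟨x, hx, h⟩ := exists_wpIn hW hT hD
    exact ⟨x, hx, h, h.fnIn hT⟩
  by_cases hc : T ⊓ C[D] ≤ D
  · exact base D h2.1 (key _ D h1 ((inf_le_inf_left _ (centralizer_le h2.1)).trans hc) le_rfl) x h3
  have h4 := h2.2
  rw [top_inf_eq] at h4
  have nC : N[D] ≤ N[C[D]] := Loc.normalizer_le_normalizer_centralizer _
  obtain ⟨c, hc', n, hn, rfl⟩ := (h4.inf_of_le_normalizer (centralizer_le_normalizer _) nC).frattini (nC h3)
  have h5 : n ∈ N[D] := (N[D].mul_mem_cancel_left (centralizer_le_normalizer _ hc')).1 h3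
  rw [inf_assoc, inf_eq_right.2 (centralizer_le_normalizer _)] at hn
  have h6 : D ⊔ T ⊓ C[D] ≤ T := sup_le h2.1 inf_le_left
  have h7 := mem_normalizer_iff_conj_smul.1 (Loc.le_normalizer_sup (zpowers_le.2 h5) (zpowers_le.2 hn) (mem_zpowers n))
  refine trans D n c (mono _ _ n le_sup_left (ih _ n trivial (card_lt_of_lt (left_lt_sup.2 hc)) h6 (h7.le.trans h6))) ?_
  rw [mem_normalizer_iff_conj_smul.1 h5]
  exact cen D h2.1 c hc'

theorem sf_of_local_Z (hW : IsConjugacyFunctor p W) (hWZ : ∀ P : Subgroup G, IsPGroup p P → Z[P] ≤ W P)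
    (hT : IsSylowIn p T ⊤) {Good : G → Prop} (hG : ∀ x ∈ N[W T], Good x)
    (hloc : ∀ D, FNIn p ⊤ T D → Z[T] ≤ D → ∀ y ∈ N[D], ∀ A : Set G, A ⊆ (T ⊓ N[D] : Subgroup G) →
      (∀ a ∈ A, y * a * y⁻¹ ∈ T ⊓ N[D]) → SF (T ⊓ N[D]) (fun x => x ∈ N[W (T ⊓ N[D])] ∨ Good x) A y)
    (A : Set G) (g : G) (hA : A ⊆ T) (hA' : ∀ a ∈ A, g * a * g⁻¹ ∈ T) : SF T Good A g := by
  refine (wp_induction hW hWZ hT (fun D g => SF T Good D g) (fun U => ∀ y ∈ N[U], ∀ A : Set G,
    A ⊆ (T ⊓ N[U] : Subgroup G) → (∀ a ∈ A, y * a * y⁻¹ ∈ T ⊓ N[U]) → SF T Good A y)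
    (fun D E g h1 h2 => h2.mono h1) (fun D g h h1 h2 => h1.trans (fun a ha => conj_mem_conj_smul.2 ha) h2)
    (fun D hD c hc => SF.of_centralizer hD hc) (fun D hD hL x hx => ?_) (fun D h1 h2 ih y hy A hA hA' => ?_)
    (closure A) g ((closure_le _).2 hA) ?_).mono subset_closure
  · have h1 : D ≤ T ⊓ N[D] := le_inf hD D.le_normalizer
    exact hL x hx D h1 fun a ha => h1 ((mem_normalizer_iff.1 hx a).1 ha)
  · refine (hloc D h1 h2 y hy A hA hA').imp inf_le_left ?_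
    rintro x (hx | hx) B hB hB'
    swap
    · exact SF.single (hB.trans inf_le_left) hx fun b hb => (hB' b hb).1
    rcases (inf_le_left : T ⊓ N[D] ≤ T).eq_or_lt with h5 | h5
    · rw [h5] at hx hB hB'
      exact SF.single hB (hG x hx) hB'
    · have h6 := lt_inf_normalizer_functor hW hT.isPGroup h5
      exact ih h5 x hx B (hB.trans h6.le) fun b hb => h6.le (hB' b hb)
  · rw [conj_smul_eq_map, MonoidHom.map_closure, closure_le]
    rintro _ ⟨a, ha, rfl⟩
    exact hA' a ha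

theorem tc_of_local_Z (hW : IsConjugacyFunctor p W) (hWZ : ∀ P : Subgroup G, IsPGroup p P → Z[P] ≤ W P)
    (hT : IsSylowIn p T ⊤) {M : Subgroup G} (hM : T ⊓ ⁅N[W T], N[W T]⁆ ≤ M)
    (hloc : ∀ D, FNIn p ⊤ T D → Z[T] ≤ D → (T ⊓ N[D]) ⊓ ⁅N[D], N[D]⁆ ≤
      ((T ⊓ N[D]) ⊓ ⁅N[W (T ⊓ N[D])], N[W (T ⊓ N[D])]⁆) ⊔ M) : T ⊓ commutator G ≤ M := by
  refine hT.inf_commutator_le fun x hx g _ hx' => wp_induction hW hWZ hT
    (fun D g => ∀ a ∈ D, a⁻¹ * (g * a * g⁻¹) ∈ M) (fun U => (T ⊓ N[U]) ⊓ ⁅N[U], N[U]⁆ ≤ M)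
    (fun D E g h1 h2 a ha => h2 a (h1 ha)) (fun D g h h1 h2 a ha => ?_) (fun D _ c hc a ha => ?_)
    (fun D hD hL x hx a ha => ?_) (fun D h1 h2 ih => ?_) (zpowers x) g (zpowers_le.2 hx) ?_ x (mem_zpowers x)
  · simpa [mul_assoc] using mul_mem (h1 a ha) (h2 _ (conj_mem_conj_smul.2 ha))
  · rw [← hc a ha]; simp
  · have h1 : D ≤ T ⊓ N[D] := le_inf hD D.le_normalizer
    exact hL ⟨h1 (mul_mem (inv_mem ha) ((mem_normalizer_iff.1 hx a).1 ha)),
      inv_mul_conj_mem_commutator (D.le_normalizer ha) hx⟩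
  · refine (hloc D h1 h2).trans (sup_le ?_ le_rfl)
    rcases (inf_le_left : T ⊓ N[D] ≤ T).eq_or_lt with h5 | h5
    · rwa [h5]
    · exact (inf_le_inf_right _ (lt_inf_normalizer_functor hW hT.isPGroup h5).le).trans (ih h5)
  · rw [conj_smul_eq_map, MonoidHom.map_zpowers, zpowers_le]
    exact hx'

end Cfsg.Agent.PLocal
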